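import Cfsg.Agent.H375.EPR.LTwoEleven
import Cfsg.Agent.H363.PslCard
import Cfsg.Agent.H470.EPO.R1Tr

/-!
# `PSL₂(q)`, `q ≥ 7`, `q ≠ 9` : rank one data and hypotheses (helper375)
-/

set_option autoImplicit false

namespace Cfsg.Agent.H375.EPR.LTwo

open Matrix Cfsg.Agent.H284 Cfsg.Agent.H470.EPO

/-- `|F| = r` prime : the characteristic is `r` -/
theorem char_of_card {p r : ℕ} [Fact p.Prime] (hr : r.Prime) {F : Type*} [Field F] [Fintype F] [CharP F p]
    (h : Fintype.card F = r) : p = r := by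
  obtain ⟨n, -, hn⟩ := FiniteField.card F p
  rw [h] at hn
  have h1 : p ∣ r := by
    rw [hn]
    exact dvd_pow_self p n.ne_zero
  exact (Nat.prime_dvd_prime_iff_eq Fact.out hr).1 h1

/-- **`PSL₂(q)`, `q ≥ 7`, `q ≠ 9`** -/
theorem r1_psl {p : ℕ} [Fact p.Prime] {F : Type} [Field F] [Fintype F] [CharP F p] (h7 : 7 ≤ Fintype.card F)
    (h9 : Fintype.card F ≠ 9) {T : Type*} [Group T] (e : T ≃* Matrix.ProjectiveSpecialLinearGroup (Fin 2) F) :
    ∃ D : R1 p T, D.Hyp := by
  obtain ⟨n, hp, hn⟩ := FiniteField.card F p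
  have hc : Nat.card F = Fintype.card F := Nat.card_eq_fintype_card
  by_cases hp2 : p = 2
  · subst hp2
    have h8 : 8 ≤ Nat.card F := by
      rw [hc]
      by_contra hcon
      have h1 : Fintype.card F = 7 := by omega
      have h2 : 2 ∣ Fintype.card F := by
        rw [hn]
        exact dvd_pow_self 2 n.ne_zero
      omega
    exact R1.exists_ofEquiv e ⟨data F 2, hyp_even F h8⟩
  · have hodd : Odd (Fintype.card F) := by
      rw [hn]
      exact ((Fact.out : p.Prime).odd_of_ne_two hp2).pow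
    by_cases h13 : 13 ≤ Fintype.card F
    · exact R1.exists_ofEquiv e ⟨data F p, hyp_odd F p hp2 (by rw [hc]; exact h13)⟩
    · have h711 : Fintype.card F = 7 ∨ Fintype.card F = 11 := by
        obtain ⟨k, hk⟩ := hodd
        omega
      rcases h711 with h | h
      · have hp7 := char_of_card (p := p) (by norm_num : Nat.Prime 7) h
        subst hp7
        obtain ⟨e'⟩ := H363.PslCard.psl_of_card (n := Fin 2) (F := F) (F' := ZMod 7) (by rw [h, ZMod.card])
        exact R1.exists_ofEquiv (e.trans e') ⟨data (ZMod 7) 7, hyp_seven⟩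
      · have hp11 := char_of_card (p := p) (by norm_num : Nat.Prime 11) h
        subst hp11
        obtain ⟨e'⟩ := H363.PslCard.psl_of_card (n := Fin 2) (F := F) (F' := ZMod 11) (by rw [h, ZMod.card])
        exact R1.exists_ofEquiv (e.trans e') ⟨data (ZMod 11) 11, hyp_eleven⟩

end Cfsg.Agent.H375.EPR.LTwo
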