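import Cfsg.Agent.H375.EPR.LTwoSmall

/-!
# `PSL₂(11)` : the hypotheses `R1.Hyp` (helper375)
-/

set_option autoImplicit false
set_option linter.unusedSectionVars false

namespace Cfsg.Agent.H375.EPR.LTwo

open Matrix Cfsg.Agent.H284 Cfsg.Agent.H470.EPO
open Cfsg.Agent.ClassicalGeometry.SLTwoFour (w ext2 det2 mul00 mul01 mul10 mul11 w00 w01 w10 w11 neg_ij one00 one01
  one10 one11 w_mul_self)
open Cfsg.Agent.ClassicalGeometry.PSL2Klein (mk mk_eq_mk mk_eq_one mk_neg)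

local notation "SL2" => Matrix.SpecialLinearGroup (Fin 2)
local notation "PSL2" => Matrix.ProjectiveSpecialLinearGroup (Fin 2)

instance fact11 : Fact (Nat.Prime 11) := ⟨by norm_num⟩

/-- generator -/
def v11 : (ZMod 11)ˣ := ⟨2, 6, by decide, by decide⟩

theorem v11_gen : ∀ a : (ZMod 11)ˣ, a ∈ Subgroup.zpowers v11 := by
  intro a
  rw [Subgroup.mem_zpowers_iff]
  have h : ∀ x : ZMod 11, x ≠ 0 → ∃ n : Fin 10, x = 2 ^ (n : ℕ) := by decide
  obtain ⟨n, hn⟩ := h a a.ne_zero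
  refine ⟨((n : ℕ) : ℤ), ?_⟩
  rw [zpow_natCast]
  apply Units.ext
  rw [hn, Units.val_pow_eq_pow_val]
  rfl

/-- the involutions -/
def ζ11 (a ε : ZMod 11) (h : ε * ε = 1) : SL2 (ZMod 11) := ⟨!![a, ε; -(1 + a * a) * ε, -a], by
  rw [det_fin_two_of]
  have : a * -a - ε * (-(1 + a * a) * ε) = -(a * a) + (1 + a * a) * (ε * ε) := by ring
  rw [this, h]
  ring⟩

set_option maxRecDepth 1000000 in
/-- orders in `A₅` -/
theorem a5_orders (M : Type*) [Group M] (e : M ≃* alternatingGroup (Fin 5)) (g : M) :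
    g * g = 1 ∨ g * g * g = 1 ∨ g * g * g * g * g = 1 := by
  have h : ∀ x : alternatingGroup (Fin 5), x * x = 1 ∨ x * x * x = 1 ∨ x * x * x * x * x = 1 := by decide
  rcases h (e g) with h1 | h1 | h1
  · left
    apply e.injective
    rw [map_mul, h1, map_one]
  · right; left
    apply e.injective
    rw [map_mul, map_mul, h1, map_one]
  · right; right
    apply e.injective
    rw [map_mul, map_mul, map_mul, map_mul, h1, map_one]

section

variable {F : Type*} [Field F]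

/-- powers and the trace -/
theorem step {P y : SL2 F} {U V : F} (h0 : P 0 0 = U * y 0 0 - V) (h1 : P 0 1 = U * y 0 1) :
    (P * y) 0 0 = ((y 0 0 + y 1 1) * U - V) * y 0 0 - U ∧ (P * y) 0 1 = ((y 0 0 + y 1 1) * U - V) * y 0 1 := by
  have hd := det2 y
  refine ⟨?_, ?_⟩
  · rw [mul00, h0, h1]
    linear_combination -U * hd
  · rw [mul01, h0, h1]
    ring

theorem trace_cases {y : SL2 F} (hb : y 0 1 ≠ 0)
    (h : mk y * mk y = 1 ∨ mk y * mk y * mk y = 1 ∨ mk y * mk y * mk y * mk y * mk y = 1) :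
    y 0 0 + y 1 1 = 0 ∨ (y 0 0 + y 1 1) ^ 2 = 1 ∨ (y 0 0 + y 1 1) ^ 4 - 3 * (y 0 0 + y 1 1) ^ 2 + 1 = 0 := by
  have s1 : y 0 0 = 1 * y 0 0 - 0 ∧ y 0 1 = 1 * y 0 1 := ⟨by ring, by ring⟩
  have s2 := step s1.1 s1.2
  have s3 := step s2.1 s2.2
  have s4 := step s3.1 s3.2
  have s5 := step s4.1 s4.2
  have hz : ∀ P : SL2 F, mk P = 1 → P 0 1 = 0 := by
    intro P hP
    rcases mk_eq_one.1 hP with h1 | h1
    · rw [h1, one01]
    · rw [h1, neg_ij, one01, neg_zero]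
  rcases h with h | h | h
  · have h1 := hz (y * y) h
    rw [s2.2] at h1
    left
    linear_combination (mul_eq_zero.1 h1).resolve_right hb
  · have h1 := hz (y * y * y) h
    rw [s3.2] at h1
    right; left
    linear_combination (mul_eq_zero.1 h1).resolve_right hb
  · have h1 := hz (y * y * y * y * y) h
    rw [s5.2] at h1
    right; right
    linear_combination (mul_eq_zero.1 h1).resolve_right hb

theorem mem_norm_of_inv {x : SL2 F} (h : mk x * mk x = 1)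
    (hx : (x 0 0 = 0 ∧ x 1 1 = 0) ∨ (x 1 0 = 0 ∧ x 0 1 = 0)) :
    mk x ∈ Subgroup.normalizer (T0 F : Set (PSL2 F)) := by
  rcases hx with hx | hx
  · have hi : (mk x)⁻¹ = mk x := inv_eq_of_mul_eq_one_right h
    have key : ∀ g ∈ T0 F, (mk x)⁻¹ * g * mk x ∈ T0 F := by
      intro g hg
      obtain ⟨a, rfl⟩ := mem_T0.1 hg
      rw [← mk_inv, ← mk_mul, ← mk_mul, mem_T0', conj_t10, conj_t01, hx.1, hx.2]
      exact ⟨by ring, by ring⟩
    rw [Subgroup.mem_normalizer_iff]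
    intro g
    constructor
    · intro hg
      have h1 := key g hg
      rw [hi] at h1
      rw [hi]
      exact h1
    · intro hg
      have h1 := key _ hg
      have h2 : (mk x)⁻¹ * (mk x * g * (mk x)⁻¹) * mk x = g := by group
      rwa [h2] at h1
  · exact Subgroup.le_normalizer (mem_T0'.2 hx)

theorem cond_of_mem_norm {x : SL2 F} {a : Fˣ} (ha : (a : F) ^ 2 ≠ 1)
    (hx : mk x ∈ Subgroup.normalizer (T0 F : Set (PSL2 F))) :
    (x 0 0 = 0 ∧ x 1 1 = 0) ∨ (x 1 0 = 0 ∧ x 0 1 = 0) := by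
  by_contra hcon
  push Not at hcon
  have h1 := (Subgroup.mem_normalizer_iff'.1 hx ((mk x)⁻¹ * t a)).1
  have h2 : (mk x)⁻¹ * t a * mk x ∈ T0 F := by
    have h3 := inv_mem hx
    have h4 := (Subgroup.mem_normalizer_iff.1 h3 (t a)).1 (t_mem a)
    rwa [inv_inv] at h4
  have h5 := inter_triv (fun h => hcon.1 h.1 h.2) (fun h => hcon.2 h.1 h.2) h2
  rw [t_eq_one] at h5
  exact ha h5

end

theorem card_T0_11 : 5 ≤ Nat.card (T0 (ZMod 11)) := by
  have h := card_T0 (F := ZMod 11)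
  rw [Nat.card_zmod] at h
  omega

theorem a5_simple {M : Type*} [Group M] (e : M ≃* alternatingGroup (Fin 5)) : IsSimpleGroup M :=
  e.isSimpleGroup

theorem a5_card {M : Type*} [Group M] (e : M ≃* alternatingGroup (Fin 5)) : Nat.card M = 60 := by
  rw [Nat.card_congr e.toEquiv, Nat.card_eq_fintype_card]
  rfl

theorem eq_of_a5 {K M : Subgroup (PSL2 (ZMod 11))} (hK : T0 (ZMod 11) ≤ K) (hKM : K ≤ M)
    (e : M ≃* alternatingGroup (Fin 5)) {x : SL2 (ZMod 11)} (hx : mk x ∈ K) (hx1 : ¬ (x 0 0 = 0 ∧ x 1 1 = 0))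
    (hx2 : ¬ (x 1 0 = 0 ∧ x 0 1 = 0)) : K = M := by
  have hfin : Finite (PSL2 (ZMod 11)) := inferInstance
  have h1 := sq_le hK hx hx1 hx2
  have h2 : 5 * 5 ≤ Nat.card (T0 (ZMod 11)) * Nat.card (T0 (ZMod 11)) := Nat.mul_le_mul card_T0_11 card_T0_11
  have hcM := a5_card e
  have hcK : Nat.card (K.subgroupOf M) = Nat.card K := Nat.card_congr (Subgroup.subgroupOfEquivOfLe hKM).toEquiv
  have hidx := Subgroup.card_mul_index (K.subgroupOf M)
  rw [hcK, hcM] at hidx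
  have hsimp := a5_simple e
  have h3 : (K.subgroupOf M).index < 3 := by
    by_contra hcon
    have : 25 * 3 ≤ Nat.card K * (K.subgroupOf M).index := Nat.mul_le_mul (by omega) (by omega)
    omega
  interval_cases hi : (K.subgroupOf M).index
  · omega
  · rw [Subgroup.index_eq_one, Subgroup.subgroupOf_eq_top] at hi
    exact le_antisymm hKM hi
  · exfalso
    have hn : (K.subgroupOf M).Normal := Subgroup.normal_of_index_eq_two hi
    rcases hn.eq_bot_or_eq_top with h4 | h4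
    · rw [h4, Subgroup.card_bot] at hcK
      omega
    · rw [h4, Subgroup.index_top] at hi
      omega

/-- there is an involution outside the normaliser of the torus -/
theorem exists_inv {M : Subgroup (PSL2 (ZMod 11))} (e : M ≃* alternatingGroup (Fin 5))
    {x : SL2 (ZMod 11)} (hx : mk x ∈ M) (hx1 : ¬ (x 0 0 = 0 ∧ x 1 1 = 0))
    (hx2 : ¬ (x 1 0 = 0 ∧ x 0 1 = 0)) :
    ∃ y : SL2 (ZMod 11), mk y ∈ M ∧ mk y * mk y = 1 ∧ ¬ (y 0 0 = 0 ∧ y 1 1 = 0) ∧ ¬ (y 1 0 = 0 ∧ y 0 1 = 0) := by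
  have hfin : Finite (PSL2 (ZMod 11)) := inferInstance
  by_contra hcon
  push Not at hcon
  have ha : (v11 : ZMod 11) ^ 2 ≠ 1 := by decide
  have hsimp := a5_simple e
  have hcM := a5_card e
  let s : Set M := {m | m * m = 1}
  have hconj : Group.conjugatesOfSet s ⊆ s := by
    intro m hm
    obtain ⟨n, hn, hc⟩ := Group.mem_conjugatesOfSet_iff.1 hm
    obtain ⟨c, rfl⟩ := isConj_iff.1 hc
    change c * n * c⁻¹ * (c * n * c⁻¹) = 1
    have hn' : n * n = 1 := hn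
    calc c * n * c⁻¹ * (c * n * c⁻¹) = c * (n * n) * c⁻¹ := by group
      _ = 1 := by rw [hn']; group
  have hle : Subgroup.normalClosure s ≤ (Subgroup.normalizer (T0 (ZMod 11) : Set (PSL2 (ZMod 11)))).subgroupOf M := by
    change Subgroup.closure (Group.conjugatesOfSet s) ≤ _
    rw [Subgroup.closure_le]
    intro m hm
    have hm1 : m * m = 1 := hconj hm
    change (m : PSL2 (ZMod 11)) ∈ Subgroup.normalizer (T0 (ZMod 11) : Set (PSL2 (ZMod 11)))
    obtain ⟨y, hy⟩ := mk_surj (m : PSL2 (ZMod 11))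
    have hy1 : mk y * mk y = 1 := by
      rw [hy]
      exact Subtype.ext_iff.1 hm1
    rw [← hy]
    apply mem_norm_of_inv hy1
    by_contra h3
    push Not at h3
    have h4 := hcon y (hy ▸ m.2) hy1
    by_cases h5 : y 0 0 = 0 ∧ y 1 1 = 0
    · exact h3.1 h5.1 h5.2
    · have h6 := h4 (fun h7 h8 => h5 ⟨h7, h8⟩)
      by_cases h7 : y 1 0 = 0 ∧ y 0 1 = 0
      · exact h3.2 h7.1 h7.2
      · exact h7 ⟨h6.1, h6.2⟩
  have hnc : (Subgroup.normalClosure s).Normal := Subgroup.normalClosure_normal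
  rcases hnc.eq_bot_or_eq_top with h4 | h4
  · obtain ⟨m, hm⟩ := exists_prime_orderOf_dvd_card' (G := M) 2 (by rw [hcM]; norm_num)
    have h5 : m ∈ s := by
      change m * m = 1
      have h6 := pow_orderOf_eq_one m
      rw [hm, pow_two] at h6
      exact h6
    have h6 := Subgroup.subset_normalClosure h5
    rw [h4] at h6
    have h7 : m = 1 := Subgroup.mem_bot.1 h6
    rw [h7, orderOf_one] at hm
    exact absurd hm (by norm_num)
  · rw [h4] at hle
    have h5 : (⟨mk x, hx⟩ : M) ∈ (Subgroup.normalizer (T0 (ZMod 11) : Set (PSL2 (ZMod 11)))).subgroupOf M :=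
      hle (Subgroup.mem_top _)
    rcases cond_of_mem_norm ha (show mk x ∈ _ from h5) with h6 | h6
    · exact hx1 h6
    · exact hx2 h6

/-- **normal form** -/
theorem exists_zeta {M : Subgroup (PSL2 (ZMod 11))} (hT : T0 (ZMod 11) ≤ M) (e : M ≃* alternatingGroup (Fin 5))
    {x : SL2 (ZMod 11)} (hx : mk x ∈ M) (hx1 : ¬ (x 0 0 = 0 ∧ x 1 1 = 0))
    (hx2 : ¬ (x 1 0 = 0 ∧ x 0 1 = 0)) :
    ∃ a ε : ZMod 11, ∃ h : ε * ε = 1, (a = 1 ∨ a = 3) ∧ (ε = 1 ∨ ε = -1) ∧ mk (ζ11 a ε h) ∈ M := by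
  obtain ⟨y, hy, hy2, hy3, hy4⟩ := exists_inv e hx hx1 hx2
  have hne : mk y ≠ 1 := by
    intro h
    rcases mk_eq_one.1 h with h | h
    · exact hy4 ⟨by rw [h, one10], by rw [h, one01]⟩
    · exact hy4 ⟨by rw [h, neg_ij, one10, neg_zero], by rw [h, neg_ij, one01, neg_zero]⟩
  have htr := tr_zero (by decide : (2 : ZMod 11) ≠ 0) hy2 hne
  have hd := det2 y
  rw [htr] at hd
  have ha0 : y 0 0 ≠ 0 := fun h => hy3 ⟨h, by rw [htr, h, neg_zero]⟩
  have hb0 : y 0 1 ≠ 0 := by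
    intro h
    rw [h] at hd
    have key : ∀ a : ZMod 11, a * -a - 0 ≠ 1 := by decide
    rw [zero_mul] at hd
    exact key _ hd
  have htrace : ∀ s : (ZMod 11)ˣ, ((s : ZMod 11) * y 0 0 + ((s⁻¹ : (ZMod 11)ˣ) : ZMod 11) * -y 0 0 = 0 ∨
      ((s : ZMod 11) * y 0 0 + ((s⁻¹ : (ZMod 11)ˣ) : ZMod 11) * -y 0 0) ^ 2 = 1 ∨
      ((s : ZMod 11) * y 0 0 + ((s⁻¹ : (ZMod 11)ˣ) : ZMod 11) * -y 0 0) ^ 4 -
        3 * ((s : ZMod 11) * y 0 0 + ((s⁻¹ : (ZMod 11)ˣ) : ZMod 11) * -y 0 0) ^ 2 + 1 = 0) := by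
    intro s
    have hg : mk (tS s * y) ∈ M := M.mul_mem (hT (t_mem s)) hy
    have e00 : (tS s * y) 0 0 = (s : ZMod 11) * y 0 0 := by
      rw [mul00]; simp only [tS00, tS01]; ring
    have e01 : (tS s * y) 0 1 = (s : ZMod 11) * y 0 1 := by
      rw [mul01]; simp only [tS00, tS01]; ring
    have e11 : (tS s * y) 1 1 = ((s⁻¹ : (ZMod 11)ˣ) : ZMod 11) * -y 0 0 := by
      rw [mul11, htr]; simp only [tS10, tS11]; ring
    have h1 := trace_cases (y := tS s * y) (by rw [e01]; exact mul_ne_zero s.ne_zero hb0) (by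
      have h2 := a5_orders M e ⟨_, hg⟩
      simp only [Subtype.ext_iff] at h2
      exact h2)
    rw [e00, e11] at h1
    exact h1
  -- the value of `a`
  have hval : y 0 0 = 1 ∨ y 0 0 = -1 ∨ y 0 0 = 3 ∨ y 0 0 = -3 := by
    have h1 := htrace ⟨3, 4, by decide, by decide⟩
    have h2 := htrace ⟨2, 6, by decide, by decide⟩
    change ((3 : ZMod 11) * y 0 0 + (4 : ZMod 11) * -y 0 0 = 0 ∨
      ((3 : ZMod 11) * y 0 0 + (4 : ZMod 11) * -y 0 0) ^ 2 = 1 ∨
      ((3 : ZMod 11) * y 0 0 + (4 : ZMod 11) * -y 0 0) ^ 4 -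
        3 * ((3 : ZMod 11) * y 0 0 + (4 : ZMod 11) * -y 0 0) ^ 2 + 1 = 0) at h1
    change ((2 : ZMod 11) * y 0 0 + (6 : ZMod 11) * -y 0 0 = 0 ∨
      ((2 : ZMod 11) * y 0 0 + (6 : ZMod 11) * -y 0 0) ^ 2 = 1 ∨
      ((2 : ZMod 11) * y 0 0 + (6 : ZMod 11) * -y 0 0) ^ 4 -
        3 * ((2 : ZMod 11) * y 0 0 + (6 : ZMod 11) * -y 0 0) ^ 2 + 1 = 0) at h2
    have key : ∀ a : ZMod 11, a ≠ 0 → (3 * a + 4 * -a = 0 ∨ (3 * a + 4 * -a) ^ 2 = 1 ∨
        (3 * a + 4 * -a) ^ 4 - 3 * (3 * a + 4 * -a) ^ 2 + 1 = 0) →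
        (2 * a + 6 * -a = 0 ∨ (2 * a + 6 * -a) ^ 2 = 1 ∨
        (2 * a + 6 * -a) ^ 4 - 3 * (2 * a + 6 * -a) ^ 2 + 1 = 0) →
        a = 1 ∨ a = -1 ∨ a = 3 ∨ a = -3 := by decide
    exact key _ ha0 h1 h2
  -- reduce to `a = 1, 3`
  have main : ∀ z : SL2 (ZMod 11), mk z ∈ M → z 1 1 = - z 0 0 → z 0 1 ≠ 0 → (z 0 0 = 1 ∨ z 0 0 = 3) →
      ∃ a ε : ZMod 11, ∃ h : ε * ε = 1, (a = 1 ∨ a = 3) ∧ (ε = 1 ∨ ε = -1) ∧ mk (ζ11 a ε h) ∈ M := by
    intro z hz hz1 hz2 hz3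
    have hdz := det2 z
    rw [hz1] at hdz
    have key : ∀ b : ZMod 11, b ≠ 0 → ∃ s : ZMod 11, s ≠ 0 ∧ (b = s ^ 2 * 1 ∨ b = s ^ 2 * -1) := by decide
    obtain ⟨s, hs, hcase⟩ := key _ hz2
    obtain ⟨ε, hε, hε', hb⟩ : ∃ ε : ZMod 11, ε * ε = 1 ∧ (ε = 1 ∨ ε = -1) ∧ z 0 1 = s ^ 2 * ε := by
      rcases hcase with h | h
      · exact ⟨1, by decide, Or.inl rfl, h⟩
      · exact ⟨-1, by decide, Or.inr rfl, h⟩
    refine ⟨z 0 0, ε, hε, hz3, hε', ?_⟩
    let sU : (ZMod 11)ˣ := Units.mk0 s hs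
    have hsv : (sU : ZMod 11) = s := rfl
    have hsi : (sU : ZMod 11) * ((sU⁻¹ : (ZMod 11)ˣ) : ZMod 11) = 1 := Units.mul_inv sU
    have heq : tS sU * ζ11 (z 0 0) ε hε * (tS sU)⁻¹ = z := by
      obtain ⟨a1, a2, a3, a4⟩ := conj_tS sU (ζ11 (z 0 0) ε hε)
      have c0 : (ζ11 (z 0 0) ε hε) 0 0 = z 0 0 := rfl
      have c1 : (ζ11 (z 0 0) ε hε) 0 1 = ε := rfl
      have c2 : (ζ11 (z 0 0) ε hε) 1 0 = -(1 + z 0 0 * z 0 0) * ε := rfl
      have c3 : (ζ11 (z 0 0) ε hε) 1 1 = -z 0 0 := rfl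
      apply ext2
      · rw [a1, c0]
      · rw [a2, c1, hb, hsv]
      · rw [a3, c2]
        have hc : z 1 0 * (s ^ 2 * ε) = -(1 + z 0 0 * z 0 0) := by
          rw [← hb]
          linear_combination -hdz
        rw [hsv] at hsi
        generalize ((sU⁻¹ : (ZMod 11)ˣ) : ZMod 11) = si at hsi
        rw [← hc]
        linear_combination (z 1 0 * s ^ 2 * si ^ 2) * hε + z 1 0 * (s * si + 1) * hsi
      · rw [a4, c3, hz1]
    have h1 : mk (ζ11 (z 0 0) ε hε) = (t sU)⁻¹ * mk z * t sU := by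
      have h2 : mk z = t sU * mk (ζ11 (z 0 0) ε hε) * (t sU)⁻¹ := by
        conv_lhs => rw [← heq]
        rfl
      rw [h2]; group
    rw [h1]
    exact M.mul_mem (M.mul_mem (M.inv_mem (hT (t_mem sU))) hz) (hT (t_mem sU))
  rcases hval with h | h | h | h
  · exact main y hy htr hb0 (Or.inl h)
  · refine main (-y) (by rw [mk_neg]; exact hy) (by rw [neg_ij, neg_ij, htr]) ?_ (Or.inl (by rw [neg_ij, h, neg_neg]))
    rw [neg_ij]; exact neg_ne_zero.2 hb0
  · exact main y hy htr hb0 (Or.inr h)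
  · refine main (-y) (by rw [mk_neg]; exact hy) (by rw [neg_ij, neg_ij, htr]) ?_ (Or.inr (by rw [neg_ij, h, neg_neg]))
    rw [neg_ij]; exact neg_ne_zero.2 hb0

/-- the candidates -/
def Z11 (n : PSL2 (ZMod 11)) : Subgroup (PSL2 (ZMod 11)) := T0 (ZMod 11) ⊔ Subgroup.zpowers n

/-- **`q = 11`** -/
theorem hyp_eleven : (data (ZMod 11) 11).Hyp := by
  classical
  have ha : (v11 : ZMod 11) ^ 2 ≠ 1 := by decide
  refine ⟨hcomm 11 ha, fun h => absurd h (by norm_num), fun h => absurd h (by norm_num), ?_⟩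
  have hcard : Nat.card (ZMod 11) = 11 := by rw [Nat.card_zmod]
  let Z0 : Finset (Subgroup (PSL2 (ZMod 11))) := {Z11 (mk (ζ11 1 1 (by decide))), Z11 (mk (ζ11 1 (-1) (by decide))),
    Z11 (mk (ζ11 3 1 (by decide))), Z11 (mk (ζ11 3 (-1) (by decide)))}
  refine hov2 11 v11_gen (by decide) (Z0.filter (fun Z => Z ≠ ⊥ ∧ Z ≠ ⊤)) ?_ ?_ ?_
  · have h1 := Finset.card_filter_le Z0 (fun Z => Z ≠ ⊥ ∧ Z ≠ ⊤)
    have h2 : Z0.card ≤ 4 := Finset.card_le_four
    omega
  · intro Z hZ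
    exact (Finset.mem_filter.1 hZ).2
  · rintro K M hK hKM hM ⟨x, hx, hx1, hx2⟩
    have hq : Fintype.card (ZMod 11) = 11 := ZMod.card 11
    have hd := Cfsg.Agent.S5892.result (F := ZMod 11) 11 (by rw [hq]; decide) (by rw [hq]; norm_num) M hM
    rw [hq] at hd
    have h25 : 25 ≤ Nat.card M := by
      have h1 := sq_le (hK.trans hKM) (hKM hx) hx1 hx2
      have h2 : 5 * 5 ≤ Nat.card (T0 (ZMod 11)) * Nat.card (T0 (ZMod 11)) := Nat.mul_le_mul card_T0_11 card_T0_11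
      omega
    rcases hd with hd | ⟨h1, -⟩ | ⟨-, -, k, hk, ⟨e⟩⟩ | ⟨F₀, i1, i2, hF, -⟩ |
      ⟨F₀, i1, i2, r, hr, hro, hF, -⟩ | ⟨-, -, ⟨e⟩⟩ | ⟨-, -, -, ⟨e⟩⟩ | ⟨-, -, ⟨e⟩⟩
    · left
      rw [hcard]
      omega
    · omega
    · exfalso
      have h3 : Nat.card M = 2 * k := by
        rw [Nat.card_congr e.toEquiv, DihedralGroup.nat_card]
      omega
    · exfalso
      have h2 : (Fintype.card F₀ ^ 2).Prime := by rw [← hF]; norm_num
      exact Nat.Prime.not_prime_pow le_rfl h2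
    · exfalso
      have h2 : (Fintype.card F₀ ^ r).Prime := by rw [← hF]; norm_num
      exact Nat.Prime.not_prime_pow hr.two_le h2
    · right
      have hKM' : K = M := eq_of_a5 hK hKM e hx hx1 hx2
      subst hKM'
      obtain ⟨a, ε, h, ha', hε', hm⟩ := exists_zeta hK e hx hx1 hx2
      have hZK : Z11 (mk (ζ11 a ε h)) = K := by
        have hle : Z11 (mk (ζ11 a ε h)) ≤ K := sup_le hK (by rw [Subgroup.zpowers_le]; exact hm)
        refine eq_of_a5 (x := ζ11 a ε h) le_sup_left hle e ?_ ?_ ?_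
        · exact Subgroup.mem_sup_right (Subgroup.mem_zpowers _)
        · rintro ⟨h1, -⟩
          have h2 : a = 0 := h1
          rcases ha' with h3 | h3
          · rw [h3] at h2; exact absurd h2 (by decide)
          · rw [h3] at h2; exact absurd h2 (by decide)
        · rintro ⟨-, h1⟩
          have h2 : ε = 0 := h1
          rcases hε' with h3 | h3
          · rw [h3] at h2; exact absurd h2 (by decide)
          · rw [h3] at h2; exact absurd h2 (by decide)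
      refine ⟨Z11 (mk (ζ11 a ε h)), Finset.mem_filter.2 ⟨?_, ?_, ?_⟩, ?_⟩
      · rcases ha' with rfl | rfl <;> rcases hε' with rfl | rfl
        · exact Finset.mem_insert_self _ _
        · exact Finset.mem_insert_of_mem (Finset.mem_insert_self _ _)
        · exact Finset.mem_insert_of_mem (Finset.mem_insert_of_mem (Finset.mem_insert_self _ _))
        · exact Finset.mem_insert_of_mem (Finset.mem_insert_of_mem (Finset.mem_insert_of_mem
            (Finset.mem_singleton_self _)))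
      · intro h1
        apply T0_ne_bot ha
        rw [eq_bot_iff, ← h1]
        exact le_sup_left
      · rw [hZK]
        exact hM.1
      · rw [hZK]
        exact fun φ hφ => hφ
    · exfalso
      have h3 : Nat.card M = 12 := by
        rw [Nat.card_congr e.toEquiv, Nat.card_eq_fintype_card]
        rfl
      omega
    · exfalso
      have h3 : Nat.card M = 24 := by
        rw [Nat.card_congr e.toEquiv, Nat.card_eq_fintype_card]
        rfl
      omega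

end Cfsg.Agent.H375.EPR.LTwo
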