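import Cfsg.Agent.H375.EPR.LTwo
import Cfsg.Agent.S5892
import Cfsg.Agent.S5893
import Cfsg.Agent.SmallSimple.PSLTwoPart
import Cfsg.Agent.ClassicalGeometry.PSL2Basic

/-!
# `PSL₂(F)` : the hypotheses `R1.Hyp`, `|F| ≥ 8` even or `|F| ≥ 13` odd (helper375)
-/

set_option autoImplicit false
set_option linter.unusedSectionVars false

namespace Cfsg.Agent.H375.EPR.LTwo

open Matrix Cfsg.Agent.H284 Cfsg.Agent.H470.EPO
open Cfsg.Agent.ClassicalGeometry.SLTwoFour (w ext2 det2 mul00 mul01 mul10 mul11 w00 w01 w10 w11 neg_ij one00 one01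
  one10 one11 w_mul_self)
open Cfsg.Agent.ClassicalGeometry.PSL2Klein (mk mk_eq_mk mk_eq_one mk_neg)

variable {F : Type*} [Field F]

local notation "SL2" => Matrix.SpecialLinearGroup (Fin 2)
local notation "PSL2" => Matrix.ProjectiveSpecialLinearGroup (Fin 2)

/-- the torus -/
abbrev T0 (F : Type*) [Field F] : Subgroup (PSL2 F) := B F ⊓ cj (wP F) (B F)

theorem mem_T0' {x : SL2 F} : mk x ∈ T0 F ↔ x 1 0 = 0 ∧ x 0 1 = 0 := by
  rw [Subgroup.mem_inf, mem_B, mem_cjw]

theorem mem_T0 {g : PSL2 F} : g ∈ T0 F ↔ ∃ a : Fˣ, t a = g := by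
  constructor
  · intro h
    obtain ⟨x, rfl⟩ := mk_surj g
    rw [mem_T0'] at h
    have hd := det2 x
    rw [h.1, mul_zero, sub_zero] at hd
    refine ⟨⟨x 0 0, x 1 1, hd, by rw [mul_comm]; exact hd⟩, congrArg mk ?_⟩
    apply ext2
    · rfl
    · rw [tS01, h.2]
    · rw [tS10, h.1]
    · rfl
  · rintro ⟨a, rfl⟩
    exact mem_T0'.2 ⟨rfl, rfl⟩

theorem t_mem (a : Fˣ) : t a ∈ T0 F := mem_T0.2 ⟨a, rfl⟩

theorem t_eq_one {a : Fˣ} : t a = 1 ↔ (a : F) ^ 2 = 1 := by
  rw [show t a = mk (tS a) from rfl, mk_eq_one]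
  constructor
  · rintro (h | h)
    · have h1 := congrArg (fun x : SL2 F => x 0 0) h
      have h2 : (a : F) = 1 := h1
      rw [h2, one_pow]
    · have h1 := congrArg (fun x : SL2 F => x 0 0) h
      have h2 : (a : F) = -1 := by
        have h3 : (a : F) = (-1 : SL2 F) 0 0 := h1
        rw [h3, neg_ij, one00]
      rw [h2]; ring
  · intro h
    have h1 : ((a : F) - 1) * ((a : F) + 1) = 0 := by linear_combination h
    rcases mul_eq_zero.1 h1 with h2 | h2
    · left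
      have h3 : a = 1 := Units.ext (sub_eq_zero.1 h2)
      rw [h3]
      apply ext2 <;> simp
    · right
      have h3 : a = -1 := Units.ext (by push_cast; linear_combination h2)
      rw [h3]
      apply ext2
      · rw [tS00, neg_ij, one00]; push_cast; ring
      · rw [tS01, neg_ij, one01, neg_zero]
      · rw [tS10, neg_ij, one10, neg_zero]
      · rw [tS11, neg_ij, one11, inv_neg, inv_one]; push_cast; ring

theorem comm_aux (a b : Fˣ) (c : F) (h : (a : F) ^ 2 ≠ 1) :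
    u (c / (1 - (a : F) ^ 2)) * t a * (u (c / (1 - (a : F) ^ 2)))⁻¹ * (t a)⁻¹ = u c := by
  have h0 : 1 - (a : F) ^ 2 ≠ 0 := sub_ne_zero.2 (Ne.symm h)
  rw [← u_neg, mul_assoc, mul_assoc, ← mul_assoc (t a), conj_t, ← u_add]
  congr 2
  field_simp
  ring

/-- a Sylow subgroup is conjugate to `U` -/
theorem exists_cj {p : ℕ} {T : Type*} [Group T] [Finite T] [Fact p.Prime] (D : R1 p T) (P : Subgroup T)
    (hP : IsPGroup p P) (hc : Nat.card P = Nat.card D.U) : ∃ g : T, P = cj g D.U := by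
  let S : Sylow p T := ⟨D.U, D.pU, fun {Q} hQ hle => D.mU Q hle hQ⟩
  obtain ⟨S', hS'⟩ := hP.exists_le_sylow
  obtain ⟨g, hg⟩ := MulAction.exists_smul_eq T S S'
  have h1 : (S' : Subgroup T) = cj g D.U := by
    rw [← hg]
    rfl
  refine ⟨g, ?_⟩
  rw [← h1]
  apply Subgroup.eq_of_le_of_card_ge hS'
  rw [hc, h1, card_cj]

theorem card_U [Finite F] : Nat.card (U F) = Nat.card F := by
  refine (Nat.card_congr (Equiv.ofBijective (fun b : F => (⟨u b, mem_U.2 ⟨b, rfl⟩⟩ : U F)) ⟨?_, ?_⟩)).symm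
  · intro a b h
    exact u_inj (Subtype.ext_iff.1 h)
  · rintro ⟨g, hg⟩
    obtain ⟨b, rfl⟩ := mem_U.1 hg
    exact ⟨b, rfl⟩

theorem conj_t10 (x : SL2 F) (a : Fˣ) : (x⁻¹ * tS a * x) 1 0 = x 0 0 * x 1 0 * (((a⁻¹ : Fˣ) : F) - a) := by
  rw [mul10, mul10, mul11, inv10, inv11]
  simp only [tS00, tS01, tS10, tS11]
  ring

theorem conj_t01 (x : SL2 F) (a : Fˣ) : (x⁻¹ * tS a * x) 0 1 = x 0 1 * x 1 1 * ((a : F) - ((a⁻¹ : Fˣ) : F)) := by
  rw [mul01, mul00, mul01, inv00, inv01]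
  simp only [tS00, tS01, tS10, tS11]
  ring

theorem inv_sub_ne {a : Fˣ} (h : (a : F) ^ 2 ≠ 1) : ((a⁻¹ : Fˣ) : F) - a ≠ 0 := by
  intro h1
  apply h
  have h2 : (a : F) * ((a⁻¹ : Fˣ) : F) = 1 := Units.mul_inv a
  linear_combination -(a : F) * h1 + h2

theorem inv_sub_ne' {a : Fˣ} (h : (a : F) ^ 2 ≠ 1) : (a : F) - ((a⁻¹ : Fˣ) : F) ≠ 0 := by
  intro h1
  apply inv_sub_ne h
  linear_combination -h1

/-- if `T0 ≤ B^g` then `B^g = B` or `B^w` -/
theorem cj_cases {g : PSL2 F} {a : Fˣ} (ha : (a : F) ^ 2 ≠ 1) (h : t a ∈ cj g (B F)) :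
    g ∈ B F ∨ (wP F)⁻¹ * g ∈ B F := by
  obtain ⟨x, rfl⟩ := mk_surj g
  rw [mem_cj, ← mk_inv, ← mk_mul, ← mk_mul, mem_B, conj_t10] at h
  have h1 := (mul_eq_zero.1 h).resolve_right (inv_sub_ne ha)
  rcases mul_eq_zero.1 h1 with h2 | h2
  · right
    rw [wP_inv, ← mk_mul, mem_B, mul10, w10, w11, h2]
    ring
  · left
    exact mem_B.2 h2

theorem cj_of_mem {g : PSL2 F} (h : (wP F)⁻¹ * g ∈ B F) : cj g (B F) = cj (wP F) (B F) := by
  have h1 : g = wP F * ((wP F)⁻¹ * g) := by group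
  rw [h1, cj_mul, cj_eq_self h]

/-- `wP t(a) wP = t(a⁻¹)` -/
theorem w_t (a : Fˣ) : (wP F)⁻¹ * t a * wP F = t a⁻¹ := by
  rw [wP_inv, ← mk_mul, ← mk_mul, ← mk_neg]
  congr 1
  apply ext2
  · rw [neg_ij, mul00, mul00, mul01, w00, w01, w10]
    simp
  · rw [neg_ij, mul01, mul00, mul01, w00, w01, w11]
    simp
  · rw [neg_ij, mul10, mul10, mul11, w00, w11, w10]
    simp
  · rw [neg_ij, mul11, mul10, mul11, w10, w11, w01]
    simp

theorem hcomm [Finite F] (p : ℕ) [Fact p.Prime] [CharP F p] {a : Fˣ} (ha : (a : F) ^ 2 ≠ 1) :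
    ∀ X : Subgroup (PSL2 F), X ≤ (data F p).U →
      (∀ u ∈ (data F p).U, ∀ t ∈ (data F p).T0, u * t * u⁻¹ * t⁻¹ ∈ X) → X = (data F p).U := by
  intro X hX h
  apply le_antisymm hX
  intro g hg
  obtain ⟨c, rfl⟩ := mem_U.1 hg
  rw [← comm_aux a a c ha]
  exact h _ (mem_U.2 ⟨_, rfl⟩) _ (t_mem a)

theorem hp2 [Finite F] (p : ℕ) [Fact p.Prime] [CharP F p] (hp : p = 2) :
    ∀ φ : MulAut (data F p).U, (∀ t ∈ (data F p).T0, ∀ u v : (data F p).U, (v : PSL2 F) = t * u * t⁻¹ →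
    ((φ v : (data F p).U) : PSL2 F) = t * (φ u : (data F p).U) * t⁻¹) → ∀ m : ℕ, φ ^ 2 ^ m = 1 → φ = 1 := by
  subst hp
  intro φ h m hm
  have hU : ∀ b : F, u b ∈ (data F 2).U := fun b => mem_U.2 ⟨b, rfl⟩
  obtain ⟨c, hc⟩ := mem_U.1 (φ ⟨u 1, hU 1⟩).2
  have hsq : ∀ b : F, ∃ a : F, a ^ 2 = b := by
    intro b
    have hinj : Function.Injective (fun a : F => a ^ 2) := by
      intro a a' haa
      have h1 : (a - a') ^ 2 = 0 := by
        rw [sub_pow_char]
        exact sub_eq_zero.2 haa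
      exact sub_eq_zero.1 (pow_eq_zero_iff two_ne_zero |>.1 h1)
    exact (Finite.injective_iff_surjective.1 hinj) b
  have h1 : ∀ b : F, ((φ ⟨u b, hU b⟩ : (data F 2).U) : PSL2 F) = u (b * c) := by
    intro b
    by_cases hb : b = 0
    · subst hb
      have : (⟨u (0 : F), hU 0⟩ : (data F 2).U) = 1 := Subtype.ext u_zero
      rw [this, map_one, zero_mul]
      exact u_zero.symm
    · obtain ⟨a, ha⟩ := hsq b
      have ha0 : a ≠ 0 := by
        rintro rfl
        apply hb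
        rw [← ha]; ring
      have h2 := h (t (Units.mk0 a ha0)) (t_mem _) ⟨u 1, hU 1⟩ ⟨u b, hU b⟩ (by
        change u b = t _ * u 1 * (t _)⁻¹
        rw [conj_t, Units.val_mk0, ha, mul_one])
      rw [h2, ← hc, conj_t, Units.val_mk0, ha]
  have h3 : ∀ n : ℕ, ∀ b : F, (((φ ^ n) ⟨u b, hU b⟩ : (data F 2).U) : PSL2 F) = u (b * c ^ n) := by
    intro n
    induction n with
    | zero => intro b; rw [pow_zero, pow_zero, mul_one]; rfl
    | succ n ih =>
      intro b
      rw [pow_succ, MulAut.mul_apply]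
      have h4 : φ ⟨u b, hU b⟩ = ⟨u (b * c), hU _⟩ := Subtype.ext (h1 b)
      rw [h4, ih, show b * c * c ^ n = b * c ^ (n + 1) by ring]
  have h5 : c ^ 2 ^ m = 1 := by
    have h6 := h3 (2 ^ m) 1
    rw [hm, one_mul] at h6
    exact (u_inj h6).symm
  have h7 : c = 1 := by
    have h8 : (c - 1) ^ 2 ^ m = 0 := by
      rw [sub_pow_char_pow, one_pow, h5, sub_self]
    exact sub_eq_zero.1 (pow_eq_zero_iff (pow_ne_zero _ two_ne_zero) |>.1 h8)
  ext v
  obtain ⟨b, hb⟩ := mem_U.1 v.2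
  have h9 : v = ⟨u b, hU b⟩ := Subtype.ext hb.symm
  rw [h9, h1, h7, mul_one]
  rfl

/-- the function on the root subgroup -/
theorem hinv [Finite F] (p : ℕ) [Fact p.Prime] [CharP F p] {a : Fˣ} (ha : (a : F) ^ 2 ≠ 1)
    {x y z : Fˣ} (hxyz : (x : F) ^ 2 + (y : F) ^ 2 = (z : F) ^ 2)
    (hne : (x : F) ^ 4 + (x : F) ^ 2 * (y : F) ^ 2 + (y : F) ^ 4 ≠ 0) :
    ∀ φ : MulAut (PSL2 F), (∀ t ∈ (data F p).T0, φ t = t) → ∀ b ∈ (data F p).B, φ b ∈ (data F p).B := by
  intro φ hφ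
  have hfin : Finite (PSL2 F) := inferInstance
  obtain ⟨g, hg⟩ := exists_cj (data F p) ((data F p).U.map φ.toMonoidHom)
    ((data F p).pU.map _) (Nat.card_congr ((data F p).U.equivMapOfInjective _ φ.injective).toEquiv.symm)
  have hU : ∀ b : F, u b ∈ U F := fun b => mem_U.2 ⟨b, rfl⟩
  have h1 : ∀ v, φ v ∈ cj g (U F) ↔ v ∈ U F := by
    intro v
    constructor
    · intro hv
      have h2 : φ v ∈ (data F p).U.map φ.toMonoidHom := by rw [hg]; exact hv
      obtain ⟨v', hv', h3⟩ := h2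
      rw [← φ.injective h3]
      exact hv'
    · intro hv
      have h2 : φ v ∈ (data F p).U.map φ.toMonoidHom := ⟨v, hv, rfl⟩
      rw [hg] at h2
      exact h2
  have hN : ∀ b ∈ B F, ∀ v, v ∈ U F ↔ b * v * b⁻¹ ∈ U F := by
    intro b hb
    rw [← normalizer_U] at hb
    exact Subgroup.mem_normalizer_iff.1 hb
  -- `T0` normalises `U^g`
  have h2 : t a ∈ cj g (B F) := by
    rw [mem_cj, ← normalizer_U, Subgroup.mem_normalizer_iff]
    intro v
    have h3 : v ∈ U F ↔ g * v * g⁻¹ ∈ cj g (U F) := by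
      rw [mem_cj]
      have : g⁻¹ * (g * v * g⁻¹) * g = v := by group
      rw [this]
    have h3' : g⁻¹ * t a * g * v * (g⁻¹ * t a * g)⁻¹ ∈ U F ↔ t a * (g * v * g⁻¹) * (t a)⁻¹ ∈ cj g (U F) := by
      rw [mem_cj]
      have : g⁻¹ * (t a * (g * v * g⁻¹) * (t a)⁻¹) * g = g⁻¹ * t a * g * v * (g⁻¹ * t a * g)⁻¹ := by group
      rw [this]
    rw [h3, h3']
    -- pull back by `φ`
    obtain ⟨v', hv'⟩ := φ.surjective (g * v * g⁻¹)
    rw [← hv']
    have h4 : t a * φ v' * (t a)⁻¹ = φ (t a * v' * (t a)⁻¹) := by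
      rw [map_mul, map_mul, map_inv, hφ _ (t_mem a)]
    rw [h4, h1, h1]
    exact hN _ (t_mem a).1 v'
  rcases cj_cases ha h2 with h3 | h3
  · -- `φ U = U`
    have h4 : ∀ v, φ v ∈ U F ↔ v ∈ U F := by
      intro v
      rw [← h1 v, mem_cj, hN _ (inv_mem h3), inv_inv]
    intro b hb
    change φ b ∈ B F
    rw [← normalizer_U, Subgroup.mem_normalizer_iff]
    intro v
    obtain ⟨v', rfl⟩ := φ.surjective v
    have h5 : φ b * φ v' * (φ b)⁻¹ = φ (b * v' * b⁻¹) := by
      rw [map_mul, map_mul, map_inv]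
    rw [h5, h4, h4]
    exact hN b hb v'
  · exfalso
    have h4 : ∀ b : F, ∃ c : F, u c = (wP F)⁻¹ * φ (u b) * wP F := by
      intro b
      rw [← mem_U]
      have h5 := (h1 (u b)).2 (hU b)
      rw [mem_cj] at h5
      have h6 := (hN _ h3 _).1 h5
      have h7 : (wP F)⁻¹ * g * (g⁻¹ * φ (u b) * g) * ((wP F)⁻¹ * g)⁻¹ = (wP F)⁻¹ * φ (u b) * wP F := by group
      rwa [h7] at h6
    choose f hf using h4
    have fadd : ∀ b b' : F, f (b + b') = f b + f b' := by
      intro b b'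
      apply u_inj
      rw [hf, u_add, map_mul, u_add, hf, hf]
      group
    have f0 : f 1 ≠ 0 := by
      intro h5
      have h6 := hf 1
      rw [h5, u_zero] at h6
      have h7 : φ (u (1 : F)) = 1 := by
        have : φ (u (1 : F)) = wP F * ((wP F)⁻¹ * φ (u 1) * wP F) * (wP F)⁻¹ := by group
        rw [this, ← h6]; group
      have h8 : u (1 : F) = u 0 := by
        rw [u_zero]
        exact φ.injective (by rw [h7, map_one])
      exact one_ne_zero (u_inj h8)
    have fmul : ∀ (c : Fˣ) (b : F), f ((c : F) ^ 2 * b) = ((c⁻¹ : Fˣ) : F) ^ 2 * f b := by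
      intro c b
      apply u_inj
      rw [hf, ← conj_t, map_mul, map_mul, map_inv, hφ _ (t_mem c), ← conj_t, hf, ← w_t]
      group
    have h5 := fadd ((x : F) ^ 2 * 1) ((y : F) ^ 2 * 1)
    have h6 : (x : F) ^ 2 * 1 + (y : F) ^ 2 * 1 = (z : F) ^ 2 * 1 := by rw [← hxyz]; ring
    rw [h6, fmul, fmul, fmul, ← add_mul] at h5
    have h7 := mul_right_cancel₀ f0 h5
    apply hne
    have hx : (x : F) * ((x⁻¹ : Fˣ) : F) = 1 := Units.mul_inv x
    have hy : (y : F) * ((y⁻¹ : Fˣ) : F) = 1 := Units.mul_inv y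
    have hz : (z : F) * ((z⁻¹ : Fˣ) : F) = 1 := Units.mul_inv z
    generalize (x : F) = x' at *
    generalize (y : F) = y' at *
    generalize (z : F) = z' at *
    generalize ((x⁻¹ : Fˣ) : F) = xi at *
    generalize ((y⁻¹ : Fˣ) : F) = yi at *
    generalize ((z⁻¹ : Fˣ) : F) = zi at *
    -- `z⁻² = x⁻² + y⁻²`
    have h8 : x' ^ 2 * y' ^ 2 = (x' ^ 2 + y' ^ 2) * z' ^ 2 := by
      have e1 : x' ^ 2 * y' ^ 2 * z' ^ 2 * zi ^ 2 = x' ^ 2 * y' ^ 2 := by
        have : x' ^ 2 * y' ^ 2 * z' ^ 2 * zi ^ 2 = x' ^ 2 * y' ^ 2 * (z' * zi) ^ 2 := by ring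
        rw [this, hz]; ring
      have e2 : x' ^ 2 * y' ^ 2 * z' ^ 2 * (xi ^ 2 + yi ^ 2) = (x' ^ 2 + y' ^ 2) * z' ^ 2 := by
        have : x' ^ 2 * y' ^ 2 * z' ^ 2 * (xi ^ 2 + yi ^ 2) =
            (x' * xi) ^ 2 * y' ^ 2 * z' ^ 2 + (y' * yi) ^ 2 * x' ^ 2 * z' ^ 2 := by ring
        rw [this, hx, hy]; ring
      rw [← e1, ← e2, h7]
    linear_combination (x' ^ 2 + y' ^ 2) * hxyz - h8

/-! ### overgroups of the torus -/

theorem card_mul_le {T : Type*} [Group T] [Finite T] {P Q M : Subgroup T} (hP : P ≤ M) (hQ : Q ≤ M)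
    (h : P ⊓ Q = ⊥) : Nat.card P * Nat.card Q ≤ Nat.card M := by
  rw [← Nat.card_prod]
  refine Nat.card_le_card_of_injective (fun x : P × Q => (⟨x.1 * x.2, M.mul_mem (hP x.1.2) (hQ x.2.2)⟩ : M)) ?_
  intro x y hxy
  exact Subgroup.mul_injective_of_disjoint (disjoint_iff.2 h) (Subtype.ext_iff.1 hxy)

theorem T0_eq_range : T0 F = (tH F).range := by
  ext g
  rw [mem_T0]
  rfl

theorem card_T0_mul [Finite F] : Nat.card (tH F).ker * Nat.card (T0 F) = Nat.card F - 1 := by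
  rw [T0_eq_range, ← Subgroup.index_ker, Subgroup.card_mul_index, Nat.card_units]

theorem mem_ker {a : Fˣ} : a ∈ (tH F).ker ↔ a = 1 ∨ a = -1 := by
  rw [MonoidHom.mem_ker, show (tH F) a = t a from rfl, t_eq_one]
  constructor
  · intro h
    have h1 : ((a : F) - 1) * ((a : F) + 1) = 0 := by linear_combination h
    rcases mul_eq_zero.1 h1 with h2 | h2
    · exact Or.inl (Units.ext (sub_eq_zero.1 h2))
    · exact Or.inr (Units.ext (by push_cast; linear_combination h2))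
  · rintro (rfl | rfl)
    · simp
    · simp

theorem card_ker_le [Finite F] : Nat.card (tH F).ker ≤ 2 := by
  classical
  have h1 : ((tH F).ker : Set Fˣ) ⊆ ({1, -1} : Set Fˣ) := by
    intro a ha
    rcases mem_ker.1 ha with h | h
    · rw [h]; exact Set.mem_insert _ _
    · rw [h]; exact Set.mem_insert_of_mem _ rfl
  have h2 := Set.ncard_le_ncard h1 (Set.toFinite _)
  have h3 : ({1, -1} : Set Fˣ).ncard ≤ 2 := Set.ncard_insert_le _ _ |>.trans (by rw [Set.ncard_singleton])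
  exact (le_of_eq (by rfl)).trans (h2.trans h3)

theorem card_ker_two [Finite F] [CharP F 2] : Nat.card (tH F).ker = 1 := by
  rw [Subgroup.card_eq_one, Subgroup.eq_bot_iff_forall]
  intro a ha
  rcases mem_ker.1 ha with h | h
  · exact h
  · rw [h]
    apply Units.ext
    push_cast
    exact CharTwo.neg_eq 1

theorem card_T0 [Finite F] : Nat.card F - 1 ≤ 2 * Nat.card (T0 F) := by
  rw [← card_T0_mul]
  exact Nat.mul_le_mul_right _ card_ker_le

theorem card_T0_two [Finite F] [CharP F 2] : Nat.card (T0 F) = Nat.card F - 1 := by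
  rw [← card_T0_mul, card_ker_two, one_mul]

theorem inter_triv {x : SL2 F} (h1 : ¬ (x 0 0 = 0 ∧ x 1 1 = 0)) (h2 : ¬ (x 1 0 = 0 ∧ x 0 1 = 0)) {a : Fˣ}
    (h : (mk x)⁻¹ * t a * mk x ∈ T0 F) : t a = 1 := by
  rw [t_eq_one]
  by_contra ha
  rw [← mk_inv, ← mk_mul, ← mk_mul, mem_T0', conj_t10, conj_t01] at h
  have h3 := (mul_eq_zero.1 h.1).resolve_right (inv_sub_ne ha)
  have h4 := (mul_eq_zero.1 h.2).resolve_right (inv_sub_ne' ha)
  have hd := det2 x
  rcases mul_eq_zero.1 h3 with h5 | h5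
  · rcases mul_eq_zero.1 h4 with h6 | h6
    · rw [h5, h6] at hd
      simp at hd
    · exact h1 ⟨h5, h6⟩
  · rcases mul_eq_zero.1 h4 with h6 | h6
    · exact h2 ⟨h5, h6⟩
    · rw [h5, h6] at hd
      simp at hd

theorem sq_le [Finite F] {K : Subgroup (PSL2 F)} (hK : T0 F ≤ K) {x : SL2 F} (hx : mk x ∈ K)
    (h1 : ¬ (x 0 0 = 0 ∧ x 1 1 = 0)) (h2 : ¬ (x 1 0 = 0 ∧ x 0 1 = 0)) :
    Nat.card (T0 F) * Nat.card (T0 F) ≤ Nat.card K := by
  have hfin : Finite (PSL2 F) := inferInstance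
  have h3 := card_mul_le (P := T0 F) (Q := cj (mk x) (T0 F)) (M := K) hK ?_ ?_
  · rwa [card_cj] at h3
  · intro g hg
    rw [mem_cj] at hg
    have h4 := K.mul_mem (K.mul_mem hx (hK hg)) (K.inv_mem hx)
    have h5 : mk x * ((mk x)⁻¹ * g * mk x) * (mk x)⁻¹ = g := by group
    rwa [h5] at h4
  · rw [Subgroup.eq_bot_iff_forall]
    rintro g ⟨hg1, hg2⟩
    obtain ⟨a, rfl⟩ := mem_T0.1 hg1
    exact inter_triv h1 h2 (mem_cj.1 hg2)

theorem borel_case [Finite F] (p : ℕ) [Fact p.Prime] [CharP F p] {M : Subgroup (PSL2 F)} {a : Fˣ}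
    (ha : (a : F) ^ 2 ≠ 1) (hM : T0 F ≤ M) (hd : Nat.card F ∣ Nat.card M)
    (hlt : Nat.card M < Nat.card F * Nat.card F) : M ≤ B F ∨ M ≤ cj (wP F) (B F) := by
  have hfin : Finite (PSL2 F) := inferInstance
  have := Fintype.ofFinite F
  obtain ⟨n, -, hn⟩ := FiniteField.card F p
  rw [← Nat.card_eq_fintype_card] at hn
  rw [hn] at hd
  obtain ⟨P0, hP0⟩ := Sylow.exists_subgroup_card_pow_prime p hd
  set P : Subgroup (PSL2 F) := P0.map M.subtype with hP
  have hPM : P ≤ M := by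
    rintro _ ⟨y, -, rfl⟩
    exact y.2
  have hcP : Nat.card P = Nat.card F := by
    rw [hn, ← hP0]
    exact Nat.card_congr (P0.equivMapOfInjective _ M.subtype_injective).toEquiv.symm
  obtain ⟨g, hg⟩ := exists_cj (data F p) P (IsPGroup.of_card (hcP.trans hn)) (hcP.trans card_U.symm)
  have hg' : P = cj g (U F) := hg
  have h1 : M ≤ cj g (B F) := by
    by_contra hcon
    obtain ⟨m, hm, hm2⟩ := SetLike.not_le_iff_exists.1 hcon
    have h3 := card_mul_le (P := P) (Q := cj m P) (M := M) hPM ?_ ?_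
    · rw [card_cj, hcP] at h3
      omega
    · intro y hy
      rw [mem_cj] at hy
      have h4 := M.mul_mem (M.mul_mem hm (hPM hy)) (M.inv_mem hm)
      have h5 : m * (m⁻¹ * y * m) * m⁻¹ = y := by group
      rwa [h5] at h4
    · rw [Subgroup.eq_bot_iff_forall]
      rintro y ⟨hy1, hy2⟩
      rw [hg'] at hy1
      have hy2' := mem_cj.1 hy2
      rw [hg', mem_cj] at hy2'
      obtain ⟨b, hb⟩ := mem_U.1 hy2'
      by_cases hb0 : b = 0
      · rw [hb0, u_zero] at hb
        have h6 : y = m * g * (g⁻¹ * (m⁻¹ * y * m) * g) * g⁻¹ * m⁻¹ := by group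
        rw [h6, ← hb]; group
      · exfalso
        apply hm2
        rw [mem_cj]
        obtain ⟨x, hx⟩ := mk_surj (g⁻¹ * m * g)
        rw [← hx]
        apply mem_B_of_conj hb0
        rw [hx, hb]
        apply U_le_B
        have h7 := mem_cj.1 hy1
        have h8 : g⁻¹ * m * g * (g⁻¹ * (m⁻¹ * y * m) * g) * (g⁻¹ * m * g)⁻¹ = g⁻¹ * y * g := by group
        rw [h8]
        exact h7
  rcases cj_cases ha (h1 (hM (t_mem a))) with h2 | h2
  · left
    rwa [cj_eq_self h2] at h1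
  · right
    rwa [cj_of_mem h2] at h1

/-- normaliser of the torus : the automorphisms of `K` preserve `T0` -/
theorem norm_case [Finite F] {K : Subgroup (PSL2 F)} {v : Fˣ} (hv : ∀ a : Fˣ, a ∈ Subgroup.zpowers v)
    (hv4 : v ^ 4 ≠ 1) (hK : T0 F ≤ K)
    (h : ∀ x : SL2 F, mk x ∈ K → (x 0 0 = 0 ∧ x 1 1 = 0) ∨ (x 1 0 = 0 ∧ x 0 1 = 0)) :
    ∀ φ : MulAut (PSL2 F), (∀ x ∈ K, φ x ∈ K) → ∀ z ∈ T0 F, φ z ∈ T0 F := by
  intro φ hφ
  have h1 : φ (t v) ∈ T0 F := by
    have h2 := hφ _ (hK (t_mem v))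
    obtain ⟨x, hx⟩ := mk_surj (φ (t v))
    rw [← hx] at h2 ⊢
    rcases h x h2 with h3 | h3
    · exfalso
      apply hv4
      have h4 : mk x * mk x = 1 := by
        rw [← mk_mul, mk_eq_one]
        right
        have hd := det2 x
        rw [h3.1, h3.2] at hd
        apply ext2
        · rw [neg_ij, one00, mul00, h3.1]
          linear_combination -hd
        · rw [neg_ij, one01, mul01, h3.1, h3.2]
          ring
        · rw [neg_ij, one10, mul10, h3.1, h3.2]
          ring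
        · rw [neg_ij, one11, mul11, h3.2]
          linear_combination -hd
      have h5 : t (v ^ 2) = 1 := by
        apply φ.injective
        rw [pow_two, t_mul, map_mul, ← hx, h4, map_one]
      rw [t_eq_one] at h5
      apply Units.ext
      push_cast at h5 ⊢
      linear_combination h5
    · exact mem_T0'.2 h3
  intro z hz
  obtain ⟨a, rfl⟩ := mem_T0.1 hz
  obtain ⟨n, rfl⟩ := Subgroup.mem_zpowers_iff.1 (hv a)
  have h2 : t (v ^ n) = (t v) ^ n := map_zpow (tH F) v n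
  rw [h2, map_zpow]
  exact zpow_mem h1 n

theorem T0_ne_bot [Finite F] {a : Fˣ} (ha : (a : F) ^ 2 ≠ 1) : T0 F ≠ ⊥ := by
  intro h
  have h1 := t_mem a
  rw [h, Subgroup.mem_bot, t_eq_one] at h1
  exact ha h1

theorem T0_ne_top : T0 F ≠ ⊤ := by
  intro h
  have h1 : wP F ∈ T0 F := by rw [h]; exact Subgroup.mem_top _
  have h2 := mem_T0'.1 h1
  rw [w10] at h2
  exact neg_ne_zero.2 one_ne_zero h2.1

theorem hov [Finite F] (p : ℕ) [Fact p.Prime] [CharP F p] {v : Fˣ} (hv : ∀ a : Fˣ, a ∈ Subgroup.zpowers v)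
    (hv4 : v ^ 4 ≠ 1)
    (hbig : ∀ M : Subgroup (PSL2 F), IsCoatom M → Nat.card (T0 F) * Nat.card (T0 F) ≤ Nat.card M →
      Nat.card F ∣ Nat.card M ∧ Nat.card M < Nat.card F * Nat.card F) :
    ∃ Zs : Finset (Subgroup (PSL2 F)), (Zs.card ≤ 1 ∨ Zs.card + 2 < p) ∧ (∀ Z ∈ Zs, Z ≠ ⊥ ∧ Z ≠ ⊤) ∧
    ∀ K : Subgroup (PSL2 F), (data F p).T0 ≤ K → K ≠ ⊤ → (K ≤ (data F p).B ∧ K ⊓ (data F p).U ≠ ⊥) ∨
      (K ≤ cj (data F p).w (data F p).B ∧ K ⊓ cj (data F p).w (data F p).U ≠ ⊥) ∨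
      ∃ Z ∈ Zs, ∀ φ : MulAut (PSL2 F), (∀ x ∈ K, φ x ∈ K) → ∀ z ∈ Z, φ z ∈ Z := by
  have hfin : Finite (PSL2 F) := inferInstance
  have ha : (v : F) ^ 2 ≠ 1 := by
    intro h
    apply hv4
    apply Units.ext
    push_cast
    linear_combination ((v : F) ^ 2 + 1) * h
  refine (data F p).ov_of (T0 F) (T0_ne_bot ha) T0_ne_top (fun φ h => h) ?_
  intro K hK hK1
  have hK' : T0 F ≤ K := hK
  by_cases h : ∀ x : SL2 F, mk x ∈ K → (x 0 0 = 0 ∧ x 1 1 = 0) ∨ (x 1 0 = 0 ∧ x 0 1 = 0)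
  · exact Or.inr (Or.inr (norm_case hv hv4 hK' h))
  · push Not at h
    obtain ⟨x, hx, h1, h2⟩ := h
    have h3 := sq_le hK' hx (fun h4 => h1 h4.1 h4.2) (fun h4 => h2 h4.1 h4.2)
    rcases eq_top_or_exists_le_coatom K with h4 | ⟨M, hM, hKM⟩
    · exact absurd h4 hK1
    · have h5 := hbig M hM (h3.trans (Nat.card_le_card_of_injective _ (Subgroup.inclusion_injective hKM)))
      rcases borel_case p ha (hK'.trans hKM) h5.1 h5.2 with h6 | h6
      · exact Or.inl (hKM.trans h6)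
      · exact Or.inr (Or.inl (hKM.trans h6))

theorem exists_gen (F : Type*) [Field F] [Finite F] : ∃ v : Fˣ, (∀ a : Fˣ, a ∈ Subgroup.zpowers v) ∧
    ∀ n : ℕ, 0 < n → v ^ n = 1 → Nat.card F - 1 ≤ n := by
  obtain ⟨v, hv⟩ := IsCyclic.exists_generator (α := Fˣ)
  refine ⟨v, hv, fun n hn h => ?_⟩
  have h1 : orderOf v = Nat.card F - 1 := by
    rw [orderOf_eq_card_of_forall_mem_zpowers hv, Nat.card_units]
  rw [← h1]
  exact Nat.le_of_dvd hn (orderOf_dvd_of_pow_eq_one h)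

/-- **even** -/
theorem hyp_even (F : Type*) [Field F] [Finite F] [CharP F 2] (h8 : 8 ≤ Nat.card F) :
    (data F 2).Hyp := by
  have := Fintype.ofFinite F
  obtain ⟨v, hv, hn⟩ := exists_gen F
  have hv4 : v ^ 4 ≠ 1 := fun h => by have := hn 4 (by norm_num) h; omega
  have hv3 : v ^ 3 ≠ 1 := fun h => by have := hn 3 (by norm_num) h; omega
  have hv1 : v ≠ 1 := fun h => by have := hn 1 (by norm_num) (by rw [h, one_pow]); omega
  have ha : (v : F) ^ 2 ≠ 1 := by
    intro h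
    apply hv4
    apply Units.ext
    push_cast
    linear_combination ((v : F) ^ 2 + 1) * h
  have h2 : (2 : F) = 0 := CharTwo.two_eq_zero
  refine ⟨hcomm 2 ha, hp2 2, fun _ => ?_, ?_⟩
  · have hz : (v : F) + 1 ≠ 0 := by
      intro h
      apply hv1
      apply Units.ext
      push_cast
      linear_combination h - h2
    refine hinv 2 ha (x := v) (y := 1) (z := Units.mk0 _ hz) ?_ ?_
    · rw [Units.val_mk0, Units.val_one]
      linear_combination -(v : F) * h2
    · intro h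
      apply hv3
      apply Units.ext
      push_cast at h ⊢
      have h3 : ((v : F) ^ 2 + v + 1) ^ 2 = 0 := by linear_combination h + ((v : F) ^ 3 + (v : F) ^ 2 + v) * h2
      have h4 := pow_eq_zero_iff two_ne_zero |>.1 h3
      linear_combination ((v : F) - 1) * h4
  · apply hov 2 hv hv4
    intro M hM hle
    have heven : Even (Fintype.card F) := by
      rw [← Nat.card_eq_fintype_card]
      obtain ⟨n, -, hn⟩ := FiniteField.card F 2
      rw [Nat.card_eq_fintype_card, hn]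
      exact (even_two).pow_of_ne_zero n.ne_zero
    have hd := Cfsg.Agent.S5893.result heven (by rw [← Nat.card_eq_fintype_card]; omega) M hM
    rw [card_T0_two] at hle
    rw [← Nat.card_eq_fintype_card] at hd
    rcases hd with hd | ⟨⟨e⟩⟩ | ⟨⟨e⟩⟩ | ⟨F₀, i1, i2, r, hr, -, hq, ⟨e⟩⟩
    · refine ⟨⟨_, hd⟩, ?_⟩
      rw [hd]
      apply Nat.mul_lt_mul_of_pos_left <;> omega
    · exfalso
      have h3 : Nat.card M = 2 * (Nat.card F - 1) := by
        rw [Nat.card_congr e.toEquiv, DihedralGroup.nat_card]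
      rw [h3] at hle
      have := Nat.le_of_mul_le_mul_right hle (by omega)
      omega
    · exfalso
      have h3 : Nat.card M = 2 * (Nat.card F + 1) := by
        rw [Nat.card_congr e.toEquiv, DihedralGroup.nat_card]
      rw [h3] at hle
      obtain ⟨q, hq⟩ : ∃ q, Nat.card F = q + 8 := ⟨Nat.card F - 8, by omega⟩
      rw [hq, show q + 8 - 1 = q + 7 by omega] at hle
      nlinarith
    · exfalso
      have he0 : Even (Fintype.card F₀) := by
        rw [← Nat.card_eq_fintype_card, hq] at heven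
        exact (Nat.even_pow.1 heven).1
      have h3 : Nat.card M = Fintype.card F₀ * (Fintype.card F₀ ^ 2 - 1) := by
        rw [Nat.card_congr e.toEquiv, SmallSimple.PSLTwoPart.card_psl_two_even he0]
      have h4 : 1 < Fintype.card F₀ := Fintype.one_lt_card
      have h5 : Fintype.card F₀ ^ 2 ≤ Nat.card F := by
        rw [hq]
        exact Nat.pow_le_pow_right (by omega) hr.two_le
      rw [h3] at hle
      generalize Fintype.card F₀ = q0 at *
      have h6 : (q0 ^ 2 - 1) * (q0 ^ 2 - 1) ≤ q0 * (q0 ^ 2 - 1) :=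
        (Nat.mul_le_mul (Nat.sub_le_sub_right h5 1) (Nat.sub_le_sub_right h5 1)).trans hle
      have h7 : 0 < q0 ^ 2 - 1 := by
        have : 2 ^ 2 ≤ q0 ^ 2 := Nat.pow_le_pow_left h4 2
        omega
      have h8 := Nat.le_of_mul_le_mul_right h6 h7
      have h9 : q0 + q0 ≤ q0 ^ 2 := by nlinarith
      omega

/-- **odd** -/
theorem hyp_odd (F : Type*) [Field F] [Finite F] (p : ℕ) [Fact p.Prime] [CharP F p] (hp : p ≠ 2)
    (h13 : 13 ≤ Nat.card F) : (data F p).Hyp := by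
  have := Fintype.ofFinite F
  obtain ⟨v, hv, hn⟩ := exists_gen F
  have hv8 : v ^ 8 ≠ 1 := fun h => by have := hn 8 (by norm_num) h; omega
  have hv4 : v ^ 4 ≠ 1 := fun h => by have := hn 4 (by norm_num) h; omega
  have ha : (v : F) ^ 2 ≠ 1 := by
    intro h
    apply hv4
    apply Units.ext
    push_cast
    linear_combination ((v : F) ^ 2 + 1) * h
  refine ⟨hcomm p ha, fun h => absurd h hp, fun hp3 => ?_, ?_⟩
  · have hp3' : p = 3 := by
      have := (Fact.out : p.Prime).two_le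
      omega
    subst hp3'
    have h3 : (3 : F) = 0 := by
      have := CharP.cast_eq_zero F 3
      exact_mod_cast this
    have h8' : (v : F) ^ 8 ≠ 1 := by
      intro h
      apply hv8
      apply Units.ext
      push_cast
      exact h
    have hi : (v : F) * ((v⁻¹ : Fˣ) : F) = 1 := Units.mul_inv v
    generalize ((v⁻¹ : Fˣ) : F) = vi at hi
    have hx : (v : F) - vi ≠ 0 := by
      intro h
      apply h8'
      have h1 : (v : F) ^ 2 = 1 := by linear_combination (v : F) * h + hi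
      linear_combination ((v : F) ^ 6 + (v : F) ^ 4 + (v : F) ^ 2 + 1) * h1
    have hz : (v : F) + vi ≠ 0 := by
      intro h
      apply h8'
      have h1 : (v : F) ^ 2 = -1 := by linear_combination (v : F) * h - hi
      linear_combination ((v : F) ^ 6 - (v : F) ^ 4 + (v : F) ^ 2 - 1) * h1
    refine hinv 3 ha (x := Units.mk0 _ hx) (y := 1) (z := Units.mk0 _ hz) ?_ ?_
    · rw [Units.val_mk0, Units.val_mk0, Units.val_one]
      linear_combination -4 * hi - h3
    · intro h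
      rw [Units.val_mk0, Units.val_one] at h
      apply h8'
      have h4 : (((v : F) - vi) ^ 2 - 1) ^ 2 = 0 := by linear_combination h - ((v : F) - vi) ^ 2 * h3
      have h5 := pow_eq_zero_iff two_ne_zero |>.1 h4
      have h6 : (v : F) ^ 4 = -1 := by
        linear_combination (v : F) ^ 2 * h5 + (2 * (v : F) ^ 2 - ((v : F) * vi + 1)) * hi + (v : F) ^ 2 * h3
      linear_combination ((v : F) ^ 4 - 1) * h6
  · apply hov p hv hv4
    intro M hM hle
    have hodd : Odd (Fintype.card F) := by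
      obtain ⟨n, -, hn⟩ := FiniteField.card F p
      rw [hn]
      exact ((Fact.out : p.Prime).odd_of_ne_two hp).pow
    have hd := Cfsg.Agent.S5892.result p hodd (by rw [← Nat.card_eq_fintype_card]; omega) M hM
    have hT := card_T0 (F := F)
    rw [← Nat.card_eq_fintype_card] at hd hodd
    have hle' : (Nat.card F - 1) * (Nat.card F - 1) ≤ 4 * Nat.card M := by
      calc (Nat.card F - 1) * (Nat.card F - 1) ≤ (2 * Nat.card (T0 F)) * (2 * Nat.card (T0 F)) :=
            Nat.mul_le_mul hT hT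
        _ = 4 * (Nat.card (T0 F) * Nat.card (T0 F)) := by ring
        _ ≤ _ := Nat.mul_le_mul_left _ hle
    obtain ⟨q, hq⟩ : ∃ q, Nat.card F = q + 13 := ⟨Nat.card F - 13, by omega⟩
    rcases hd with hd | ⟨-, k, hk, ⟨e⟩⟩ | ⟨-, -, k, hk, ⟨e⟩⟩ | ⟨F₀, i1, i2, hF, ⟨e⟩⟩ |
      ⟨F₀, i1, i2, r, hr, hro, hF, ⟨e⟩⟩ | ⟨h1, -, ⟨e⟩⟩ | ⟨-, -, -, ⟨e⟩⟩ | ⟨-, -, ⟨e⟩⟩
    · constructor
      · have h1 : Nat.card F ∣ 2 * Nat.card M := ⟨_, hd⟩
        exact (Nat.Coprime.dvd_mul_left (Nat.Coprime.symm (Nat.coprime_two_left.2 hodd))).1 h1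
      · rw [hq, show q + 13 - 1 = q + 12 by omega] at hd
        rw [hq]
        nlinarith
    · exfalso
      have h3 : Nat.card M = 2 * k := by
        rw [Nat.card_congr e.toEquiv, DihedralGroup.nat_card]
      rw [h3, hk, hq, show q + 13 - 1 = q + 12 by omega] at hle'
      nlinarith
    · exfalso
      have h3 : Nat.card M = 2 * k := by
        rw [Nat.card_congr e.toEquiv, DihedralGroup.nat_card]
      rw [h3, hk, hq, show q + 13 - 1 = q + 12 by omega] at hle'
      nlinarith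
    · exfalso
      have h3 : Nat.card M = Fintype.card F₀ * (Fintype.card F₀ ^ 2 - 1) := by
        rw [Nat.card_congr e.toEquiv, ClassicalGeometry.PSL2Basic.card_PGL2]
      rw [h3] at hle'
      generalize Fintype.card F₀ = q0 at *
      rw [hF] at hle'
      have h4 : 4 ≤ q0 := by
        by_contra h5
        have h6 : q0 ^ 2 ≤ 3 ^ 2 := Nat.pow_le_pow_left (by omega) 2
        omega
      have h4' : 5 ≤ q0 := by
        rcases Nat.lt_or_ge 4 q0 with h5 | h5
        · exact h5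
        · exfalso
          have h6 : q0 = 4 := by omega
          rw [hF, h6] at hodd
          exact absurd hodd (by decide)
      have h7 : 0 < q0 ^ 2 - 1 := by omega
      have h8 : (q0 ^ 2 - 1) * (q0 ^ 2 - 1) ≤ (4 * q0) * (q0 ^ 2 - 1) := by
        rw [mul_assoc]; exact hle'
      have h9 := Nat.le_of_mul_le_mul_right h8 h7
      have h10 : 5 * q0 ≤ q0 ^ 2 := by nlinarith
      omega
    · exfalso
      have ho0 : Odd (Fintype.card F₀) := by
        rw [hF] at hodd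
        exact (Nat.odd_pow_iff hr.ne_zero).1 hodd
      have h3 : 2 * Nat.card M = Fintype.card F₀ * (Fintype.card F₀ ^ 2 - 1) := by
        rw [Nat.card_congr e.toEquiv, SmallSimple.PSLTwoPart.card_psl_two_odd ho0]
      have h4 : 1 < Fintype.card F₀ := Fintype.one_lt_card
      have hr3 : 3 ≤ r := by
        have := hr.two_le
        rcases Nat.lt_or_ge 2 r with h5 | h5
        · exact h5
        · exfalso
          have : r = 2 := by omega
          rw [this] at hro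
          exact absurd hro (by decide)
      have h5 : Fintype.card F₀ ^ 3 ≤ Nat.card F := by
        rw [hF]
        exact Nat.pow_le_pow_right (by omega) hr3
      have h6 : Fintype.card F₀ * (Fintype.card F₀ ^ 2 - 1) ≤ Fintype.card F₀ ^ 3 := by
        calc Fintype.card F₀ * (Fintype.card F₀ ^ 2 - 1) ≤ Fintype.card F₀ * Fintype.card F₀ ^ 2 :=
              Nat.mul_le_mul_left _ (Nat.sub_le _ _)
          _ = _ := by ring
      have h7 : (Nat.card F - 1) * (Nat.card F - 1) ≤ 2 * Nat.card F := by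
        have : 4 * Nat.card M = 2 * (2 * Nat.card M) := by ring
        omega
      rw [hq, show q + 13 - 1 = q + 12 by omega] at h7
      nlinarith
    · exfalso
      have h3 : Nat.card M = 60 := by
        rw [Nat.card_congr e.toEquiv, Nat.card_eq_fintype_card]
        rfl
      rw [h3] at hle'
      have h4 : Nat.card F - 1 < 16 := by
        by_contra h5
        have : 16 * 16 ≤ (Nat.card F - 1) * (Nat.card F - 1) := Nat.mul_le_mul (by omega) (by omega)
        omega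
      omega
    · exfalso
      have h3 : Nat.card M = 12 := by
        rw [Nat.card_congr e.toEquiv, Nat.card_eq_fintype_card]
        rfl
      rw [h3, hq, show q + 13 - 1 = q + 12 by omega] at hle'
      nlinarith
    · exfalso
      have h3 : Nat.card M = 24 := by
        rw [Nat.card_congr e.toEquiv, Nat.card_eq_fintype_card]
        rfl
      rw [h3, hq, show q + 13 - 1 = q + 12 by omega] at hle'
      nlinarith

end Cfsg.Agent.H375.EPR.LTwo
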