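import Cfsg.Agent.H375.EPR.LTwoHyp

/-!
# `PSL₂(7)`, `PSL₂(11)` : the hypotheses `R1.Hyp` (helper375)
-/

set_option autoImplicit false
set_option linter.unusedSectionVars false

namespace Cfsg.Agent.H375.EPR.LTwo

open Matrix Cfsg.Agent.H284 Cfsg.Agent.H470.EPO
open Cfsg.Agent.ClassicalGeometry.SLTwoFour (w ext2 det2 mul00 mul01 mul10 mul11 w00 w01 w10 w11 neg_ij one00 one01
  one10 one11 w_mul_self)
open Cfsg.Agent.ClassicalGeometry.PSL2Klein (mk mk_eq_mk mk_eq_one mk_neg)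

local notation "SL2" => Matrix.SpecialLinearGroup (Fin 2)
local notation "PSL2" => Matrix.ProjectiveSpecialLinearGroup (Fin 2)

theorem key_B {p : ℕ} {T : Type*} [Group T] (D : R1 p T) {K : Subgroup T} (h3 : D.T0 ≤ K) (h4 : K ≤ D.B)
    (h5 : K ⊓ D.U = ⊥) : K = D.T0 := by
  apply le_antisymm _ h3
  intro k hk
  obtain ⟨u, hu, t, ht, rfl⟩ := D.exists_UT (h4 hk)
  have h6 : u ∈ K := by
    have := mul_mem hk (inv_mem (h3 ht))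
    rwa [mul_inv_cancel_right] at this
  have h7 : u ∈ K ⊓ D.U := ⟨h6, hu⟩
  rw [h5, Subgroup.mem_bot] at h7
  rw [h7, one_mul]
  exact ht

theorem cj_w_T0 {p : ℕ} {T : Type*} [Group T] (D : R1 p T) : cj D.w D.T0 = D.T0 := by
  show cj D.w (D.B ⊓ cj D.w D.B) = _
  rw [cj_inf, D.cj_w_cj_w, inf_comm]
  rfl

theorem key_w {p : ℕ} {T : Type*} [Group T] (D : R1 p T) {K : Subgroup T} (h3 : D.T0 ≤ K)
    (h4 : K ≤ cj D.w D.B) (h6 : K ⊓ cj D.w D.U = ⊥) : K = D.T0 := by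
  have h7 : cj D.w⁻¹ K = D.T0 := by
    apply key_B
    · have h8 := cj_mono (x := D.w⁻¹) h3
      rw [← cj_w_T0 D, cj_inv_cj] at h8
      exact h8
    · have h8 := cj_mono (x := D.w⁻¹) h4
      rwa [cj_inv_cj] at h8
    · have h8 := congrArg (cj D.w⁻¹) h6
      rw [cj_inf, cj_inv_cj] at h8
      rw [h8]
      exact Subgroup.map_bot _
  rw [← cj_w_T0 D, ← h7, cj_cj_inv]

section

variable {F : Type*} [Field F]

theorem hov2 [Finite F] (p : ℕ) [Fact p.Prime] [CharP F p] {v : Fˣ} (hv : ∀ a : Fˣ, a ∈ Subgroup.zpowers v)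
    (hv4 : v ^ 4 ≠ 1) (Z0 : Finset (Subgroup (PSL2 F))) (hc : Z0.card + 3 < p) (hZ : ∀ Z ∈ Z0, Z ≠ ⊥ ∧ Z ≠ ⊤)
    (hbig : ∀ K M : Subgroup (PSL2 F), T0 F ≤ K → K ≤ M → IsCoatom M →
      (∃ x : SL2 F, mk x ∈ K ∧ ¬ (x 0 0 = 0 ∧ x 1 1 = 0) ∧ ¬ (x 1 0 = 0 ∧ x 0 1 = 0)) →
      (Nat.card F ∣ Nat.card M ∧ Nat.card M < Nat.card F * Nat.card F) ∨
      ∃ Z ∈ Z0, ∀ φ : MulAut (PSL2 F), (∀ x ∈ K, φ x ∈ K) → ∀ z ∈ Z, φ z ∈ Z) :
    ∃ Zs : Finset (Subgroup (PSL2 F)), (Zs.card ≤ 1 ∨ Zs.card + 2 < p) ∧ (∀ Z ∈ Zs, Z ≠ ⊥ ∧ Z ≠ ⊤) ∧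
    ∀ K : Subgroup (PSL2 F), (data F p).T0 ≤ K → K ≠ ⊤ → (K ≤ (data F p).B ∧ K ⊓ (data F p).U ≠ ⊥) ∨
      (K ≤ cj (data F p).w (data F p).B ∧ K ⊓ cj (data F p).w (data F p).U ≠ ⊥) ∨
      ∃ Z ∈ Zs, ∀ φ : MulAut (PSL2 F), (∀ x ∈ K, φ x ∈ K) → ∀ z ∈ Z, φ z ∈ Z := by
  classical
  have hfin : Finite (PSL2 F) := inferInstance
  have ha : (v : F) ^ 2 ≠ 1 := by
    intro h
    apply hv4
    apply Units.ext
    push_cast
    linear_combination ((v : F) ^ 2 + 1) * h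
  refine ⟨insert (T0 F) Z0, Or.inr ?_, ?_, ?_⟩
  · have := Finset.card_insert_le (T0 F) Z0
    omega
  · intro Z hZ1
    rcases Finset.mem_insert.1 hZ1 with rfl | h
    · exact ⟨T0_ne_bot ha, T0_ne_top⟩
    · exact hZ Z h
  intro K hK hK1
  have hK' : T0 F ≤ K := hK
  by_cases h : ∀ x : SL2 F, mk x ∈ K → (x 0 0 = 0 ∧ x 1 1 = 0) ∨ (x 1 0 = 0 ∧ x 0 1 = 0)
  · exact Or.inr (Or.inr ⟨T0 F, Finset.mem_insert_self _ _, norm_case hv hv4 hK' h⟩)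
  · push Not at h
    obtain ⟨x, hx, h1, h2⟩ := h
    have h1' : ¬ (x 0 0 = 0 ∧ x 1 1 = 0) := fun h4 => h1 h4.1 h4.2
    have h2' : ¬ (x 1 0 = 0 ∧ x 0 1 = 0) := fun h4 => h2 h4.1 h4.2
    have hne : K ≠ (data F p).T0 := by
      intro h3
      rw [h3] at hx
      exact h2' (mem_T0'.1 hx)
    rcases eq_top_or_exists_le_coatom K with h4 | ⟨M, hM, hKM⟩
    · exact absurd h4 hK1
    · rcases hbig K M hK' hKM hM ⟨x, hx, h1', h2'⟩ with h5 | ⟨Z, hZ1, hZ2⟩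
      · rcases borel_case p ha (hK'.trans hKM) h5.1 h5.2 with h6 | h6
        · exact Or.inl ⟨hKM.trans h6, fun h7 => hne (key_B _ hK (hKM.trans h6) h7)⟩
        · exact Or.inr (Or.inl ⟨hKM.trans h6, fun h7 => hne (key_w _ hK (hKM.trans h6) h7)⟩)
      · exact Or.inr (Or.inr ⟨Z, Finset.mem_insert_of_mem hZ1, hZ2⟩)

theorem conj_tS (a : Fˣ) (y : SL2 F) : (tS a * y * (tS a)⁻¹) 0 0 = y 0 0 ∧
    (tS a * y * (tS a)⁻¹) 0 1 = (a : F) ^ 2 * y 0 1 ∧ (tS a * y * (tS a)⁻¹) 1 0 = ((a⁻¹ : Fˣ) : F) ^ 2 * y 1 0 ∧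
    (tS a * y * (tS a)⁻¹) 1 1 = y 1 1 := by
  have ha : (a : F) * ((a⁻¹ : Fˣ) : F) = 1 := Units.mul_inv a
  refine ⟨?_, ?_, ?_, ?_⟩
  · rw [mul00, mul00, mul01, inv00, inv10]
    simp only [tS00, tS01, tS10, tS11]
    linear_combination (y 0 0) * ha
  · rw [mul01, mul00, mul01, inv01, inv11]
    simp only [tS00, tS01, tS10, tS11]
    ring
  · rw [mul10, mul10, mul11, inv00, inv10]
    simp only [tS00, tS01, tS10, tS11]
    ring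
  · rw [mul11, mul10, mul11, inv01, inv11]
    simp only [tS00, tS01, tS10, tS11]
    linear_combination (y 1 1) * ha

theorem sq00 (y : SL2 F) : (y * y) 0 1 = y 0 1 * (y 0 0 + y 1 1) ∧ (y * y) 1 0 = y 1 0 * (y 0 0 + y 1 1) ∧
    (y * y) 0 0 = y 0 0 * (y 0 0 + y 1 1) - 1 ∧ (y * y) 1 1 = y 1 1 * (y 0 0 + y 1 1) - 1 := by
  have hd := det2 y
  refine ⟨?_, ?_, ?_, ?_⟩
  · rw [mul01]; ring
  · rw [mul10]; ring
  · rw [mul00]; linear_combination -hd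
  · rw [mul11]; linear_combination -hd

/-- an involution has trace zero -/
theorem tr_zero (h2 : (2 : F) ≠ 0) {y : SL2 F} (h : mk y * mk y = 1) (h1 : mk y ≠ 1) : y 1 1 = - y 0 0 := by
  have hd := det2 y
  obtain ⟨s1, s2, s3, s4⟩ := sq00 y
  by_contra hne
  have h0 : y 0 0 + y 1 1 ≠ 0 := fun e => hne (by linear_combination e)
  rw [← mk_mul, mk_eq_one] at h
  have hb : y 0 1 = 0 := by
    rcases h with h | h
    · rw [h, one01] at s1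
      exact (mul_eq_zero.1 s1.symm).resolve_right h0
    · rw [h, neg_ij, one01, neg_zero] at s1
      exact (mul_eq_zero.1 s1.symm).resolve_right h0
  have hc : y 1 0 = 0 := by
    rcases h with h | h
    · rw [h, one10] at s2
      exact (mul_eq_zero.1 s2.symm).resolve_right h0
    · rw [h, neg_ij, one10, neg_zero] at s2
      exact (mul_eq_zero.1 s2.symm).resolve_right h0
  rw [hb, zero_mul, sub_zero] at hd
  have h3 : y 0 0 * (y 0 0 + y 1 1) = y 1 1 * (y 0 0 + y 1 1) := by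
    rcases h with h | h
    · rw [h] at s3 s4
      rw [one00] at s3
      rw [one11] at s4
      linear_combination s4 - s3
    · rw [h, neg_ij] at s3 s4
      rw [one00] at s3
      rw [one11] at s4
      linear_combination s4 - s3
  have h4 : y 0 0 = y 1 1 := mul_right_cancel₀ h0 h3
  apply h1
  rw [mk_eq_one]
  rw [← h4] at hd
  have h5 : (y 0 0 - 1) * (y 0 0 + 1) = 0 := by linear_combination hd
  rcases mul_eq_zero.1 h5 with h6 | h6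
  · left
    apply ext2
    · rw [one00]; linear_combination h6
    · rw [hb, one01]
    · rw [hc, one10]
    · rw [one11, ← h4]; linear_combination h6
  · right
    apply ext2
    · rw [neg_ij, one00]; linear_combination h6
    · rw [neg_ij, hb, one01, neg_zero]
    · rw [neg_ij, hc, one10, neg_zero]
    · rw [neg_ij, one11, ← h4]; linear_combination h6

end

/-! ### facts on `S₄` -/

set_option maxRecDepth 100000 in
theorem s4a : ∀ a : Equiv.Perm (Fin 4), a ^ 3 = 1 → ∀ b : Equiv.Perm (Fin 4), b ^ 3 = 1 →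
    (a * b * a⁻¹ * b⁻¹) ^ 2 = 1 := by decide

set_option maxRecDepth 100000 in
theorem s4b : ∀ a : Equiv.Perm (Fin 4), a ^ 3 = 1 → a ≠ 1 → ∀ b : Equiv.Perm (Fin 4), b ^ 3 = 1 → b ≠ 1 → b ≠ a →
    b ≠ a⁻¹ → a * b * a⁻¹ * b⁻¹ ≠ 1 := by decide

set_option maxRecDepth 100000 in
theorem s4c : ∀ a : Equiv.Perm (Fin 4), a ^ 3 = 1 ∧ a ≠ 1 → ∀ n : Equiv.Perm (Fin 4), (n ^ 2 = 1 ∧
    Equiv.Perm.sign n = 1 ∧ n ≠ 1) → (n * (a * n * a⁻¹)) ^ 2 = 1 ∧ n * (a * n * a⁻¹) ≠ 1 := by decide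

set_option maxRecDepth 100000 in
set_option synthInstance.maxHeartbeats 200000 in
set_option synthInstance.maxSize 2000 in
theorem s4d : ∀ a : Equiv.Perm (Fin 4), a ^ 3 = 1 ∧ a ≠ 1 → ∀ n : Equiv.Perm (Fin 4), (n ^ 2 = 1 ∧
    Equiv.Perm.sign n = 1 ∧ n ≠ 1) →
    ∀ y : Equiv.Perm (Fin 4), (y ^ 2 = 1 ∧ Equiv.Perm.sign y = 1) →
      y = 1 ∨ y = n ∨ y = a * n * a⁻¹ ∨ y = a⁻¹ * n * a := by decide

/-! ### `q = 7` -/

instance fact7 : Fact (Nat.Prime 7) := ⟨by norm_num⟩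

/-- generator -/
def v7 : (ZMod 7)ˣ := ⟨3, 5, by decide, by decide⟩

theorem v7_gen : ∀ a : (ZMod 7)ˣ, a ∈ Subgroup.zpowers v7 := by
  intro a
  rw [Subgroup.mem_zpowers_iff]
  have h : ∀ x : ZMod 7, x ≠ 0 → x = 3 ^ 0 ∨ x = 3 ^ 1 ∨ x = 3 ^ 2 ∨ x = 3 ^ 3 ∨ x = 3 ^ 4 ∨ x = 3 ^ 5 := by decide
  rcases h a a.ne_zero with h | h | h | h | h | h
  · exact ⟨(0 : ℕ), by rw [zpow_natCast]; exact Units.ext (by rw [h]; rfl)⟩
  · exact ⟨(1 : ℕ), by rw [zpow_natCast]; exact Units.ext (by rw [h]; rfl)⟩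
  · exact ⟨(2 : ℕ), by rw [zpow_natCast]; exact Units.ext (by rw [h]; rfl)⟩
  · exact ⟨(3 : ℕ), by rw [zpow_natCast]; exact Units.ext (by rw [h]; rfl)⟩
  · exact ⟨(4 : ℕ), by rw [zpow_natCast]; exact Units.ext (by rw [h]; rfl)⟩
  · exact ⟨(5 : ℕ), by rw [zpow_natCast]; exact Units.ext (by rw [h]; rfl)⟩

/-- the element of order three -/
abbrev τ7 : PSL2 (ZMod 7) := t v7

theorem τ7_cube : τ7 ^ 3 = 1 := by
  have h : τ7 ^ 3 = t (v7 ^ 3) := (map_pow (tH (ZMod 7)) v7 3).symm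
  rw [h, t_eq_one]
  decide

theorem τ7_ne : τ7 ≠ 1 := by
  rw [Ne, t_eq_one]
  decide

/-- the four group -/
def Z7 (n : PSL2 (ZMod 7)) : Subgroup (PSL2 (ZMod 7)) :=
  Subgroup.closure {n, τ7 * n * τ7⁻¹, τ7⁻¹ * n * τ7}

theorem Z7_conj (n : PSL2 (ZMod 7)) : Z7 (τ7 * n * τ7⁻¹) = Z7 n := by
  have h1 : τ7 * (τ7 * n * τ7⁻¹) * τ7⁻¹ = τ7⁻¹ * n * τ7 := by
    have h2 : τ7 * τ7 = τ7⁻¹ := by
      rw [eq_inv_iff_mul_eq_one, ← pow_two, ← pow_succ, τ7_cube]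
    calc τ7 * (τ7 * n * τ7⁻¹) * τ7⁻¹ = (τ7 * τ7) * n * (τ7 * τ7)⁻¹ := by group
      _ = _ := by rw [h2, inv_inv]
  have h3 : τ7⁻¹ * (τ7 * n * τ7⁻¹) * τ7 = n := by group
  unfold Z7
  rw [h1, h3]
  congr 1
  ext y
  simp only [Set.mem_insert_iff, Set.mem_singleton_iff]
  tauto

/-- the involutions -/
def ζ7 (ε : ZMod 7) (h : ε * ε = 1) : SL2 (ZMod 7) := ⟨!![3, ε; 4 * ε, -3], by
  rw [det_fin_two_of]
  have : (3 : ZMod 7) * -3 - ε * (4 * ε) = -9 - 4 * (ε * ε) := by ring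
  rw [this, h]
  decide⟩

theorem Z7_cases (y : SL2 (ZMod 7)) (h0 : y 0 0 = 3) (h1 : y 1 1 = -3) (h2 : y 0 1 * y 1 0 = 4) :
    Z7 (mk y) = Z7 (mk (ζ7 1 (by decide))) ∨ Z7 (mk y) = Z7 (mk (ζ7 (-1) (by decide))) := by
  have key : ∀ b c : ZMod 7, b * c = 4 →
      ((b = 1 ∧ c = 4 * 1) ∨ (b = (v7 : ZMod 7) ^ 2 * 1 ∧ c = ((v7⁻¹ : (ZMod 7)ˣ) : ZMod 7) ^ 2 * (4 * 1)) ∨
      (b = (v7 : ZMod 7) ^ 2 * ((v7 : ZMod 7) ^ 2 * 1) ∧
        c = ((v7⁻¹ : (ZMod 7)ˣ) : ZMod 7) ^ 2 * (((v7⁻¹ : (ZMod 7)ˣ) : ZMod 7) ^ 2 * (4 * 1)))) ∨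
      ((b = -1 ∧ c = 4 * -1) ∨ (b = (v7 : ZMod 7) ^ 2 * -1 ∧ c = ((v7⁻¹ : (ZMod 7)ˣ) : ZMod 7) ^ 2 * (4 * -1)) ∨
      (b = (v7 : ZMod 7) ^ 2 * ((v7 : ZMod 7) ^ 2 * -1) ∧
        c = ((v7⁻¹ : (ZMod 7)ˣ) : ZMod 7) ^ 2 * (((v7⁻¹ : (ZMod 7)ˣ) : ZMod 7) ^ 2 * (4 * -1)))) := by decide
  have key2 : ∀ (ε : ZMod 7) (h : ε * ε = 1), ((y 0 1 = ε ∧ y 1 0 = 4 * ε) ∨
      (y 0 1 = (v7 : ZMod 7) ^ 2 * ε ∧ y 1 0 = ((v7⁻¹ : (ZMod 7)ˣ) : ZMod 7) ^ 2 * (4 * ε)) ∨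
      (y 0 1 = (v7 : ZMod 7) ^ 2 * ((v7 : ZMod 7) ^ 2 * ε) ∧
        y 1 0 = ((v7⁻¹ : (ZMod 7)ˣ) : ZMod 7) ^ 2 * (((v7⁻¹ : (ZMod 7)ˣ) : ZMod 7) ^ 2 * (4 * ε)))) →
      Z7 (mk y) = Z7 (mk (ζ7 ε h)) := by
    intro ε h hcases
    obtain ⟨a1, a2, a3, a4⟩ := conj_tS v7 (ζ7 ε h)
    obtain ⟨b1, b2, b3, b4⟩ := conj_tS v7 (tS v7 * ζ7 ε h * (tS v7)⁻¹)
    rcases hcases with h3 | h3 | h3
    · congr 2
      apply ext2
      · rw [h0]; rfl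
      · rw [h3.1]; rfl
      · rw [h3.2]; rfl
      · rw [h1]; rfl
    · rw [← Z7_conj (mk (ζ7 ε h))]
      congr 1
      change mk y = mk (tS v7 * ζ7 ε h * (tS v7)⁻¹)
      congr 1
      apply ext2
      · rw [h0, a1]; rfl
      · rw [h3.1, a2]; rfl
      · rw [h3.2, a3]; rfl
      · rw [h1, a4]; rfl
    · rw [← Z7_conj (mk (ζ7 ε h)), ← Z7_conj (τ7 * _ * _)]
      congr 1
      change mk y = mk (tS v7 * (tS v7 * ζ7 ε h * (tS v7)⁻¹) * (tS v7)⁻¹)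
      congr 1
      apply ext2
      · rw [h0, b1, a1]; rfl
      · rw [h3.1, b2, a2]; rfl
      · rw [h3.2, b3, a3]; rfl
      · rw [h1, b4, a4]; rfl
  rcases key _ _ h2 with h3 | h3
  · exact Or.inl (key2 1 (by decide) h3)
  · exact Or.inr (key2 (-1) (by decide) h3)

/-- an involution which generates a four group with its conjugate under `τ` -/
theorem Z7_of_inv {n : PSL2 (ZMod 7)} (h1 : n * n = 1) (h2 : n ≠ 1)
    (h3 : (n * (τ7 * n * τ7⁻¹)) * (n * (τ7 * n * τ7⁻¹)) = 1) (h4 : n * (τ7 * n * τ7⁻¹) ≠ 1) :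
    Z7 n = Z7 (mk (ζ7 1 (by decide))) ∨ Z7 n = Z7 (mk (ζ7 (-1) (by decide))) := by
  obtain ⟨y, rfl⟩ := mk_surj n
  have h20 : (2 : ZMod 7) ≠ 0 := by decide
  have e1 := tr_zero h20 h1 h2
  have hx : mk y * (τ7 * mk y * τ7⁻¹) = mk (y * (tS v7 * y * (tS v7)⁻¹)) := rfl
  rw [hx] at h3 h4
  have e2 := tr_zero h20 h3 h4
  obtain ⟨a1, a2, a3, a4⟩ := conj_tS v7 y
  rw [mul11, mul00, a1, a2, a3, a4] at e2
  have hd := det2 y
  rw [e1] at hd e2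
  have hv : (v7 : ZMod 7) = 3 := rfl
  have hv' : ((v7⁻¹ : (ZMod 7)ˣ) : ZMod 7) = 5 := rfl
  rw [hv, hv'] at e2
  have key : ∀ a m : ZMod 7, a * -a - m = 1 → -a * -a + a * a + (3 ^ 2 + 5 ^ 2) * m = 0 →
      (a = 3 ∨ a = -3) ∧ m = 4 := by decide
  obtain ⟨h5, h6⟩ := key (y 0 0) (y 0 1 * y 1 0) hd (by linear_combination e2)
  rcases h5 with h5 | h5
  · exact Z7_cases y h5 (by rw [e1, h5]) h6
  · rw [← mk_neg y]
    apply Z7_cases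
    · rw [neg_ij, h5, neg_neg]
    · rw [neg_ij, e1, h5, neg_neg]
    · rw [neg_ij, neg_ij, neg_mul_neg, h6]

theorem s4_case {K M : Subgroup (PSL2 (ZMod 7))} (hK : T0 (ZMod 7) ≤ K) (hKM : K ≤ M)
    (e : M ≃* Equiv.Perm (Fin 4)) {x : SL2 (ZMod 7)} (hx : mk x ∈ K) (hx1 : ¬ (x 0 0 = 0 ∧ x 1 1 = 0))
    (hx2 : ¬ (x 1 0 = 0 ∧ x 0 1 = 0)) :
    ∃ n : PSL2 (ZMod 7), n ∈ K ∧ n ≠ 1 ∧ (Z7 n = Z7 (mk (ζ7 1 (by decide))) ∨ Z7 n = Z7 (mk (ζ7 (-1) (by decide)))) ∧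
      Z7 n ≤ K ∧ ∀ φ : MulAut (PSL2 (ZMod 7)), (∀ x ∈ K, φ x ∈ K) → ∀ z ∈ Z7 n, φ z ∈ Z7 n := by
  have hτ : τ7 ∈ K := hK (t_mem v7)
  set g := mk x with hg
  set σ := g⁻¹ * τ7 * g with hσ
  have hσK : σ ∈ K := K.mul_mem (K.mul_mem (K.inv_mem hx) hτ) hx
  have hσT : σ ∉ T0 (ZMod 7) := fun h => τ7_ne (inter_triv hx1 hx2 h)
  have hσ3 : σ ^ 3 = 1 := by
    have h1 := conj_pow (a := g⁻¹) (b := τ7) (i := 3)
    rw [inv_inv] at h1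
    rw [hσ, h1, τ7_cube]
    group
  -- transfer to `S₄`
  let f : ∀ y : PSL2 (ZMod 7), y ∈ K → Equiv.Perm (Fin 4) := fun y hy => e ⟨y, hKM hy⟩
  have fmul : ∀ (y z : PSL2 (ZMod 7)) (hy : y ∈ K) (hz : z ∈ K), f (y * z) (K.mul_mem hy hz) = f y hy * f z hz := by
    intro y z hy hz
    change e ⟨y * z, _⟩ = e ⟨y, _⟩ * e ⟨z, _⟩
    rw [← map_mul]
    rfl
  have finv : ∀ (y : PSL2 (ZMod 7)) (hy : y ∈ K), f y⁻¹ (K.inv_mem hy) = (f y hy)⁻¹ := by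
    intro y hy
    change e ⟨y⁻¹, _⟩ = (e ⟨y, _⟩)⁻¹
    rw [← map_inv]
    rfl
  have finj : ∀ (y z : PSL2 (ZMod 7)) (hy : y ∈ K) (hz : z ∈ K), f y hy = f z hz → y = z := by
    intro y z hy hz h
    have := e.injective h
    exact Subtype.ext_iff.1 this
  have fone : f 1 K.one_mem = 1 := by
    change e ⟨1, _⟩ = 1
    rw [← map_one e]
    rfl
  have fpow : ∀ (y : PSL2 (ZMod 7)) (hy : y ∈ K) (m : ℕ), f (y ^ m) (K.pow_mem hy m) = (f y hy) ^ m := by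
    intro y hy m
    change e ⟨y ^ m, _⟩ = (e ⟨y, _⟩) ^ m
    rw [← map_pow]
    rfl
  have fext : ∀ (y z : PSL2 (ZMod 7)) (hy : y ∈ K) (hz : z ∈ K), y = z → f y hy = f z hz := by
    intro y z hy hz h
    subst h
    rfl
  have fcube : ∀ (y : PSL2 (ZMod 7)) (hy : y ∈ K), y ^ 3 = 1 → (f y hy) ^ 3 = 1 := by
    intro y hy h
    rw [← fpow y hy 3, ← fone]
    exact fext (y ^ 3) 1 (K.pow_mem hy 3) K.one_mem h
  have fne : ∀ (y z : PSL2 (ZMod 7)) (hy : y ∈ K) (hz : z ∈ K), y ≠ z → f y hy ≠ f z hz :=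
    fun y z hy hz h h1 => h (finj y z hy hz h1)
  have fcom : ∀ (y z : PSL2 (ZMod 7)) (hy : y ∈ K) (hz : z ∈ K),
      f (y * z * y⁻¹ * z⁻¹) (K.mul_mem (K.mul_mem (K.mul_mem hy hz) (K.inv_mem hy)) (K.inv_mem hz)) =
        f y hy * f z hz * (f y hy)⁻¹ * (f z hz)⁻¹ := by
    intro y z hy hz
    rw [fmul _ _ (K.mul_mem (K.mul_mem hy hz) (K.inv_mem hy)) (K.inv_mem hz),
      fmul _ _ (K.mul_mem hy hz) (K.inv_mem hy), fmul _ _ hy hz, finv _ hy, finv _ hz]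
  have fconj : ∀ (y z : PSL2 (ZMod 7)) (hy : y ∈ K) (hz : z ∈ K),
      f (y * z * y⁻¹) (K.mul_mem (K.mul_mem hy hz) (K.inv_mem hy)) = f y hy * f z hz * (f y hy)⁻¹ := by
    intro y z hy hz
    rw [fmul _ _ (K.mul_mem hy hz) (K.inv_mem hy), fmul _ _ hy hz, finv _ hy]
  have fconj' : ∀ (y z : PSL2 (ZMod 7)) (hy : y ∈ K) (hz : z ∈ K),
      f (y⁻¹ * z * y) (K.mul_mem (K.mul_mem (K.inv_mem hy) hz) hy) = (f y hy)⁻¹ * f z hz * f y hy := by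
    intro y z hy hz
    rw [fmul _ _ (K.mul_mem (K.inv_mem hy) hz) hy, fmul _ _ (K.inv_mem hy) hz, finv _ hy]
  -- commutators of elements of order three
  have hcomm : ∀ (c d : PSL2 (ZMod 7)) (hc : c ∈ K) (hd : d ∈ K), c ^ 3 = 1 → d ^ 3 = 1 →
      (f c hc * f d hd * (f c hc)⁻¹ * (f d hd)⁻¹) ^ 2 = 1 ∧
      Equiv.Perm.sign (f c hc * f d hd * (f c hc)⁻¹ * (f d hd)⁻¹) = 1 := by
    intro c d hc hd h1 h2
    refine ⟨s4a _ (fcube c hc h1) _ (fcube d hd h2), ?_⟩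
    rw [map_mul, map_mul, map_mul, map_inv, map_inv]
    generalize Equiv.Perm.sign (f c hc) = a
    generalize Equiv.Perm.sign (f d hd) = b
    rw [mul_comm a b, mul_inv_cancel_right, mul_inv_cancel]
  set n := τ7 * σ * τ7⁻¹ * σ⁻¹ with hn
  have hnK : n ∈ K := K.mul_mem (K.mul_mem (K.mul_mem hτ hσK) (K.inv_mem hτ)) (K.inv_mem hσK)
  have A : (f τ7 hτ) ^ 3 = 1 ∧ f τ7 hτ ≠ 1 := ⟨fcube τ7 hτ τ7_cube, fone ▸ fne _ _ hτ K.one_mem τ7_ne⟩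
  have N : (f n hnK) ^ 2 = 1 ∧ Equiv.Perm.sign (f n hnK) = 1 ∧ f n hnK ≠ 1 := by
    have h1 := hcomm τ7 σ hτ hσK τ7_cube hσ3
    have h2 : f n hnK = f τ7 hτ * f σ hσK * (f τ7 hτ)⁻¹ * (f σ hσK)⁻¹ := fcom τ7 σ hτ hσK
    rw [h2]
    refine ⟨h1.1, h1.2, ?_⟩
    apply s4b _ A.1 A.2 _ (fcube σ hσK hσ3)
    · exact fone ▸ fne _ _ hσK K.one_mem (fun h => hσT (h ▸ Subgroup.one_mem _))
    · exact fne _ _ hσK hτ (fun h => hσT (h ▸ t_mem v7))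
    · rw [← finv _ hτ]
      exact fne _ _ hσK (K.inv_mem hτ) (fun h => hσT (h ▸ Subgroup.inv_mem _ (t_mem v7)))
  have hfour := s4c _ A _ N
  have hall := s4d _ A _ N
  have hn1 : n ≠ 1 := fun h => N.2.2 (by rw [← fone]; exact fext n 1 hnK K.one_mem h)
  have hcK : τ7 * n * τ7⁻¹ ∈ K := K.mul_mem (K.mul_mem hτ hnK) (K.inv_mem hτ)
  have hcK' : τ7⁻¹ * n * τ7 ∈ K := K.mul_mem (K.mul_mem (K.inv_mem hτ) hnK) hτ
  have hmem : ∀ y (hy : y ∈ K), (f y hy) ^ 2 = 1 → Equiv.Perm.sign (f y hy) = 1 → y ∈ Z7 n := by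
    intro y hy h1 h2
    rcases hall _ ⟨h1, h2⟩ with h | h | h | h
    · have : y = 1 := finj _ _ hy K.one_mem (h.trans fone.symm)
      rw [this]; exact one_mem _
    · rw [finj _ _ hy hnK h]
      exact Subgroup.subset_closure (by simp)
    · rw [← fconj _ _ hτ hnK] at h
      rw [finj _ _ hy hcK h]
      exact Subgroup.subset_closure (by simp)
    · rw [← fconj' _ _ hτ hnK] at h
      rw [finj _ _ hy hcK' h]
      exact Subgroup.subset_closure (by simp)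
  refine ⟨n, hnK, hn1, ?_, ?_, ?_⟩
  · apply Z7_of_inv
    · apply finj _ _ (K.mul_mem hnK hnK) K.one_mem
      rw [fmul _ _ hnK hnK, fone, ← pow_two]
      exact N.1
    · exact hn1
    · apply finj _ _ (K.mul_mem (K.mul_mem hnK hcK) (K.mul_mem hnK hcK)) K.one_mem
      rw [fmul _ _ (K.mul_mem hnK hcK) (K.mul_mem hnK hcK), fmul _ _ hnK hcK, fconj _ _ hτ hnK, fone, ← pow_two]
      exact hfour.1
    · intro h
      apply hfour.2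
      rw [← fconj _ _ hτ hnK, ← fmul _ _ hnK hcK, ← fone]
      exact fext _ _ (K.mul_mem hnK hcK) K.one_mem h
  · unfold Z7
    rw [Subgroup.closure_le]
    rintro y (rfl | rfl | rfl)
    · exact hnK
    · exact hcK
    · exact hcK'
  · intro φ hφ
    have himg : ∀ c d : PSL2 (ZMod 7), c ∈ K → d ∈ K → c ^ 3 = 1 → d ^ 3 = 1 → φ (c * d * c⁻¹ * d⁻¹) ∈ Z7 n := by
      intro c d hc hd h1 h2
      have e1 : φ (c * d * c⁻¹ * d⁻¹) = φ c * φ d * (φ c)⁻¹ * (φ d)⁻¹ := by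
        rw [map_mul, map_mul, map_mul, map_inv, map_inv]
      rw [e1]
      have h3 : (φ c) ^ 3 = 1 := by rw [← map_pow, h1, map_one]
      have h4 : (φ d) ^ 3 = 1 := by rw [← map_pow, h2, map_one]
      have h5 := hcomm _ _ (hφ c hc) (hφ d hd) h3 h4
      apply hmem _ (K.mul_mem (K.mul_mem (K.mul_mem (hφ c hc) (hφ d hd)) (K.inv_mem (hφ c hc))) (K.inv_mem (hφ d hd)))
      · rw [fcom _ _ (hφ c hc) (hφ d hd)]; exact h5.1
      · rw [fcom _ _ (hφ c hc) (hφ d hd)]; exact h5.2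
    have hle : Z7 n ≤ (Z7 n).comap φ.toMonoidHom := by
      conv_lhs => unfold Z7
      rw [Subgroup.closure_le]
      rintro y (rfl | rfl | rfl)
      · exact himg τ7 σ hτ hσK τ7_cube hσ3
      · have e1 : τ7 * n * τ7⁻¹ = τ7 * (τ7 * σ * τ7⁻¹) * τ7⁻¹ * (τ7 * σ * τ7⁻¹)⁻¹ := by rw [hn]; group
        rw [e1]
        refine himg τ7 (τ7 * σ * τ7⁻¹) hτ (K.mul_mem (K.mul_mem hτ hσK) (K.inv_mem hτ)) τ7_cube ?_
        have : (τ7 * σ * τ7⁻¹) ^ 3 = τ7 * σ ^ 3 * τ7⁻¹ := by rw [conj_pow]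
        rw [this, hσ3]; group
      · have e1 : τ7⁻¹ * n * τ7 = τ7 * (τ7⁻¹ * σ * τ7) * τ7⁻¹ * (τ7⁻¹ * σ * τ7)⁻¹ := by rw [hn]; group
        rw [e1]
        refine himg τ7 (τ7⁻¹ * σ * τ7) hτ (K.mul_mem (K.mul_mem (K.inv_mem hτ) hσK) hτ) τ7_cube ?_
        have : (τ7⁻¹ * σ * τ7) ^ 3 = τ7⁻¹ * σ ^ 3 * τ7 := by
          have := conj_pow (a := τ7⁻¹) (b := σ) (i := 3)
          rwa [inv_inv] at this
        rw [this, hσ3]; group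
    exact fun z hz => hle hz

/-- **`q = 7`** -/
theorem hyp_seven : (data (ZMod 7) 7).Hyp := by
  classical
  have ha : (v7 : ZMod 7) ^ 2 ≠ 1 := by decide
  refine ⟨hcomm 7 ha, fun h => absurd h (by norm_num), fun h => absurd h (by norm_num), ?_⟩
  have hcard : Nat.card (ZMod 7) = 7 := by rw [Nat.card_zmod]
  refine hov2 7 v7_gen (by decide)
    (({Z7 (mk (ζ7 1 (by decide))), Z7 (mk (ζ7 (-1) (by decide)))} : Finset (Subgroup (PSL2 (ZMod 7)))).filter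
      (fun Z => Z ≠ ⊥ ∧ Z ≠ ⊤)) ?_ ?_ ?_
  · have h1 := Finset.card_filter_le
      ({Z7 (mk (ζ7 1 (by decide))), Z7 (mk (ζ7 (-1) (by decide)))} : Finset (Subgroup (PSL2 (ZMod 7))))
      (fun Z => Z ≠ ⊥ ∧ Z ≠ ⊤)
    have h2 := Finset.card_le_two (a := Z7 (mk (ζ7 1 (by decide)))) (b := Z7 (mk (ζ7 (-1) (by decide))))
    omega
  · intro Z hZ
    exact (Finset.mem_filter.1 hZ).2
  · rintro K M hK hKM hM ⟨x, hx, hx1, hx2⟩
    have hq : Fintype.card (ZMod 7) = 7 := ZMod.card 7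
    have hd := Cfsg.Agent.S5892.result (F := ZMod 7) 7 (by rw [hq]; decide) (by rw [hq]; norm_num) M hM
    rw [hq] at hd
    rcases hd with hd | ⟨h1, -⟩ | ⟨h1, -⟩ | ⟨F₀, i1, i2, hF, -⟩ |
      ⟨F₀, i1, i2, r, hr, hro, hF, -⟩ | ⟨h1, -⟩ | ⟨-, h1, -⟩ | ⟨-, -, ⟨e⟩⟩
    · left
      rw [hcard]
      omega
    · omega
    · exact absurd rfl h1
    · exfalso
      have h2 : (Fintype.card F₀ ^ 2).Prime := by rw [← hF]; norm_num
      exact Nat.Prime.not_prime_pow le_rfl h2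
    · exfalso
      have h2 : (Fintype.card F₀ ^ r).Prime := by rw [← hF]; norm_num
      exact Nat.Prime.not_prime_pow hr.two_le h2
    · omega
    · omega
    · right
      obtain ⟨n, hn, hn1, hcases, hle, hinvt⟩ := s4_case hK hKM e hx hx1 hx2
      refine ⟨Z7 n, Finset.mem_filter.2 ⟨?_, ?_, ?_⟩, hinvt⟩
      · rcases hcases with h | h
        · rw [h]; simp
        · rw [h]; simp
      · intro h
        have h1 : n ∈ Z7 n := Subgroup.subset_closure (by simp)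
        rw [h] at h1
        exact hn1 (Subgroup.mem_bot.1 h1)
      · intro h
        rw [h, top_le_iff] at hle
        exact hM.1 (top_le_iff.1 (hle ▸ hKM))

end Cfsg.Agent.H375.EPR.LTwo
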